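import Groth.Agent.Sga7.H741.GoodMul
import Mathlib.RingTheory.AlgebraicIndependent.Basic
import Mathlib.RingTheory.Algebraic.Integral

/-!
# Theorem R: an arc which does not extend yields a rational homomorphism

`G` is a separated group scheme locally of finite type over a field `k` and `f ∈ G(k((t)))` does not
come from `G(k[[t]])`.  Then there is a nonconstant rational point `h ∈ G(k(T))`, generically additive or
multiplicative.
-/

set_option autoImplicit false

universe u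

open CategoryTheory AlgebraicGeometry Limits MonObj PowerSeries

namespace Groth.Agent.Sga7.H741.TheoremR

open Groth.Agent.Models.WeilPts Groth.Agent.Sga7.H741.Newton Groth.Agent.Sga7.H741.Eval
  Groth.Agent.Sga7.H741.Chart Groth.Agent.Sga7.H741.Arc Groth.Agent.Sga7.H741.Val
  Groth.Agent.Sga7.H741.Slope Groth.Agent.Sga7.H741.GoodMul

section aux

variable {k : Type u} [Field k] {K : Type u} [Field K] [Algebra k K]

lemma sum_ne_zero {q p : ℕ} {b : K} (hb : Transcendental k b) :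
    (X ^ q * 1 + X ^ p * C b : K⟦X⟧) ≠ 0 := by
  intro h
  have h1 := congrArg (coeff p) h
  rw [_root_.mul_one, map_add, map_zero, PowerSeries.coeff_X_pow, PowerSeries.coeff_X_pow_mul',
    if_pos le_rfl, Nat.sub_self, PowerSeries.coeff_zero_C] at h1
  by_cases hqp : p = q
  · rw [if_pos hqp] at h1
    apply hb
    have h2 : b = -1 := by linear_combination h1
    rw [h2]
    exact isAlgebraic_one.neg
  · rw [if_neg hqp, zero_add] at h1
    apply hb
    rw [h1]
    exact isAlgebraic_zero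

lemma transcendental_sub_one {b : K} (hb : Transcendental k b) : Transcendental k (b - 1) := by
  intro h
  apply hb
  have : b = (b - 1) + 1 := by ring
  rw [this]
  exact h.add isAlgebraic_one

lemma transcendental_add {t s : K} (h : AlgebraicIndependent k ![t, s]) :
    Transcendental k (t + s) := by
  have h1 := transcendental_aeval h (MvPolynomial.X 0 + MvPolynomial.X 1) (by
    intro h2
    have h3 := h2.algHom (MvPolynomial.aeval ![(Polynomial.X : Polynomial k), 0])
    rw [map_add, MvPolynomial.aeval_X, MvPolynomial.aeval_X] at h3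
    simp only [Matrix.cons_val_zero, Matrix.cons_val_one, add_zero] at h3
    exact Polynomial.transcendental_X k h3)
  rw [map_add, MvPolynomial.aeval_X, MvPolynomial.aeval_X] at h1
  exact h1

lemma transcendental_mul {t s : K} (h : AlgebraicIndependent k ![t, s]) :
    Transcendental k (t * s) := by
  have h1 := transcendental_aeval h (MvPolynomial.X 0 * MvPolynomial.X 1) (by
    intro h2
    have h3 := h2.algHom (MvPolynomial.aeval ![(Polynomial.X : Polynomial k), 1])
    rw [map_mul, MvPolynomial.aeval_X, MvPolynomial.aeval_X] at h3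
    simp only [Matrix.cons_val_zero, Matrix.cons_val_one, _root_.mul_one] at h3
    exact Polynomial.transcendental_X k h3)
  rw [map_mul, MvPolynomial.aeval_X, MvPolynomial.aeval_X] at h1
  exact h1

end aux

section zeta

variable {k : Type u} [Field k]
  {F : Type u} [Field F] [Algebra k F] [Algebra k⟦X⟧ F]
  [IsScalarTower k k⟦X⟧ F] [IsFractionRing k⟦X⟧ F]
  {G : Over (Spec (CommRingCat.of k))} [GrpObj G] {c : UnitChart G}

lemma hX0 {K : Type u} [Field K] {n : ℕ} (hn : 0 < n) (r : K⟦X⟧) :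
    constantCoeff (X ^ n * r) = 0 := by
  rw [map_mul, map_pow, constantCoeff_X, zero_pow hn.ne', zero_mul]

/-- The rational point obtained by reduction, in coordinates. -/
lemma exists_zeta {f : SpecO k F ⟶ G} {P : Fin c.r → MvPowerSeries (Fin 2) k}
    {Q : MvPowerSeries (Fin 2) k} (H : Coords c f P Q) {q p n : ℕ} (hq : 0 < q) (hp : 0 < p)
    (hQn : ∀ e ∈ supp Q, n ≤ iwt q p e) (hQn' : ∃ e ∈ supp Q, iwt q p e = n)
    (hPn : ∀ i, ∀ e ∈ supp (P i), n ≤ iwt q p e)
    (g : Polynomial k) (hg : Transcendental k g) :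
    (leadPoly Q q p n).comp g ≠ 0 ∧
    ∃ ζ : c.B →ₐ[k] Localization.Away ((leadPoly Q q p n).comp g),
      ∀ i, algebraMap _ (Localization.Away ((leadPoly Q q p n).comp g)) ((leadPoly Q q p n).comp g) *
        ζ (c.x i) = algebraMap _ _ ((leadPoly (P i) q p n).comp g) := by
  let K := FractionRing (Polynomial k)
  let iK : Polynomial k →ₐ[k] K := IsScalarTower.toAlgHom k (Polynomial k) K
  have hiK : Function.Injective iK := IsFractionRing.injective (Polynomial k) K
  let b : K := iK g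
  have hb : Transcendental k b := fun h => hg ((isAlgebraic_algHom_iff iK hiK).1 h)
  have hev : ∀ r : Polynomial k, Polynomial.aeval b r = iK (r.comp g) := by
    intro r
    change Polynomial.aeval (iK g) r = _
    rw [Polynomial.aeval_algHom_apply, Polynomial.comp_eq_aeval]
  obtain ⟨e, he, hen⟩ := hQn'
  have hlead : lead Q q p n 1 b ≠ 0 := lead_one_ne_zero hq hp Q n hen he hb
  have hβ : (leadPoly Q q p n).comp g ≠ 0 := by
    intro h
    apply hlead
    rw [← aeval_leadPoly, hev, h, map_zero]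
  refine ⟨hβ, ?_⟩
  set β := (leadPoly Q q p n).comp g with hβdef
  let L := Localization.Away β
  have hiKβ : iK β ≠ 0 := by
    intro h; exact hβ (hiK (by rw [h, map_zero]))
  let iL : L →ₐ[k] K := IsLocalization.liftAlgHom (M := Submonoid.powers β) (f := iK) (by
    rintro ⟨_, m, rfl⟩
    rw [map_pow]
    exact (IsUnit.mk0 _ hiKβ).pow m)
  have hiL : ∀ r, iL (algebraMap (Polynomial k) L r) = iK r := fun r => IsLocalization.lift_eq _ r
  have hiLinj : Function.Injective iL := by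
    rw [injective_iff_map_eq_zero]
    intro v hv
    obtain ⟨⟨a, s⟩, has⟩ := IsLocalization.surj (Submonoid.powers β) v
    have has' : v * algebraMap (Polynomial k) L s = algebraMap (Polynomial k) L a := has
    have h1 : iK a = 0 := by rw [← hiL, ← has', map_mul, hv, zero_mul]
    have h2 : a = 0 := hiK (by rw [map_zero]; exact h1)
    rw [h2, map_zero] at has'
    have h3 : IsUnit (algebraMap (Polynomial k) L s) := IsLocalization.map_units L s
    exact (h3.mul_left_eq_zero).1 has'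
  have h1c : constantCoeff (1 : K⟦X⟧) = 1 := map_one _
  obtain ⟨g₀, ζ, h1, h2, h3⟩ := H.exists_reduction hq hp hQn hPn (1 : K⟦X⟧) (C b)
    (hX0 hq _) (hX0 hp _) (mul_ne_zero (pow_ne_zero _ PowerSeries.X_ne_zero) one_ne_zero)
    (by rw [map_add, hX0 hq, hX0 hp, add_zero]) (sum_ne_zero hb)
    (by rw [h1c, constantCoeff_C]; exact hlead)
  rw [h1c, constantCoeff_C] at h2
  have hβu : IsUnit (algebraMap (Polynomial k) L β) := IsLocalization.Away.algebraMap_isUnit β
  obtain ⟨w, hw⟩ := hβu.exists_right_inv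
  have h4 : ∀ i, iL (algebraMap (Polynomial k) L ((leadPoly (P i) q p n).comp g) * w) = ζ (c.x i) := by
    intro i
    have h5 := h2 i
    rw [← aeval_leadPoly, ← aeval_leadPoly, hev, hev, ← hβdef] at h5
    rw [map_mul, hiL, ← h5]
    have h6 : iK β * iL w = 1 := by rw [← hiL, ← map_mul, hw, map_one]
    calc iK β * ζ (c.x i) * iL w = (iK β * iL w) * ζ (c.x i) := by ring
      _ = ζ (c.x i) := by rw [h6, _root_.one_mul]
  obtain ⟨ζ₀, hζ₀⟩ := exists_comp_eq_of_gen c iL hiLinj ζ (fun i => ⟨_, h4 i⟩)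
  refine ⟨ζ₀, fun i => ?_⟩
  apply hiLinj
  have h5 : iL (ζ₀ (c.x i)) = ζ (c.x i) := DFunLike.congr_fun hζ₀ (c.x i)
  rw [map_mul, hiL, h5, hiL]
  have h6 := h2 i
  rw [← aeval_leadPoly, ← aeval_leadPoly, hev, hev, ← hβdef] at h6
  exact h6

lemma comp_zeta {P : Fin c.r → MvPowerSeries (Fin 2) k}
    {Q : MvPowerSeries (Fin 2) k} {q p n : ℕ} (g : Polynomial k)
    (ζ : c.B →ₐ[k] Localization.Away ((leadPoly Q q p n).comp g))
    (hζ : ∀ i, algebraMap _ (Localization.Away ((leadPoly Q q p n).comp g)) ((leadPoly Q q p n).comp g) *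
        ζ (c.x i) = algebraMap _ _ ((leadPoly (P i) q p n).comp g))
    {K : Type u} [Field K] [Algebra k K]
    (x : Localization.Away ((leadPoly Q q p n).comp g) →ₐ[k] K) (τ : K)
    (hx : x (algebraMap (Polynomial k) _ Polynomial.X) = τ) (e' : c.B →ₐ[k] K)
    (he' : ∀ i, lead Q q p n 1 (Polynomial.aeval τ g) * e' (c.x i) =
      lead (P i) q p n 1 (Polynomial.aeval τ g)) : x.comp ζ = e' := by
  have hx' : ∀ r : Polynomial k, x (algebraMap (Polynomial k) _ r) = Polynomial.aeval τ r := by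
    intro r
    have h1 : x.comp (IsScalarTower.toAlgHom k (Polynomial k)
        (Localization.Away ((leadPoly Q q p n).comp g))) = Polynomial.aeval τ := by
      apply Polynomial.algHom_ext
      rw [Polynomial.aeval_X, ← hx]
      rfl
    exact DFunLike.congr_fun h1 r
  have hu : IsUnit (x (algebraMap (Polynomial k) _ ((leadPoly Q q p n).comp g))) :=
    (IsLocalization.Away.algebraMap_isUnit ((leadPoly Q q p n).comp g)).map x
  apply AlgHom.ext_of_adjoin_eq_top c.gen
  rintro _ ⟨i, rfl⟩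
  rw [AlgHom.comp_apply]
  apply hu.mul_left_cancel
  rw [← map_mul, hζ i, hx', hx', Polynomial.aeval_comp, Polynomial.aeval_comp, aeval_leadPoly,
    aeval_leadPoly, he' i]

end zeta

section cocycle

variable {k : Type u} [Field k] {K : Type u} [Field K] [Algebra k K]
  {F : Type u} [Field F] [Algebra k F] [Algebra k⟦X⟧ F]
  [IsScalarTower k k⟦X⟧ F] [IsFractionRing k⟦X⟧ F]
  {G : Over (Spec (CommRingCat.of k))} [GrpObj G] [IsSeparated G.hom] {c : UnitChart G}

omit [IsSeparated G.hom] in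
lemma diff_congr (f : SpecO k F ⟶ G) (s s₁ x y : K⟦X⟧) (hs) (hs0) (hs₁) (hs₁0) (hx) (hx0) (hy) (hy0)
    (hs' : s = s₁) (hxy : x = y) :
    diff f s x hs hs0 hx hx0 = diff f s₁ y hs₁ hs₁0 hy hy0 := by
  subst hxy hs'
  rfl

lemma cocycle (f : SpecO k F ⟶ G) (s s' s'' : K⟦X⟧) (hs : constantCoeff s = 0) (hs0 : s ≠ 0)
    (hs' : constantCoeff s' = 0) (hs0' : s' ≠ 0) (hs'' : constantCoeff s'' = 0) (hs0'' : s'' ≠ 0)
    (g₀₁ g₁₂ g₀₂ : SpecO k K⟦X⟧ ⟶ G)
    (h₀₁ : specMap (toFrac k K) ≫ g₀₁ = diff f s s' hs hs0 hs' hs0')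
    (h₁₂ : specMap (toFrac k K) ≫ g₁₂ = diff f s' s'' hs' hs0' hs'' hs0'')
    (h₀₂ : specMap (toFrac k K) ≫ g₀₂ = diff f s s'' hs hs0 hs'' hs0'') :
    g₀₂ = g₁₂ * g₀₁ := by
  apply pt_ext (toFrac k K) (toFrac_injective k K)
  rw [MonObj.comp_mul, h₀₁, h₁₂, h₀₂, diff_mul]

end cocycle

section main

variable {k : Type u} [Field k]
  {F : Type u} [Field F] [Algebra k F] [Algebra k⟦X⟧ F]
  [IsScalarTower k k⟦X⟧ F] [IsFractionRing k⟦X⟧ F]
  {G : Over (Spec (CommRingCat.of k))} [GrpObj G] [IsSeparated G.hom] {c : UnitChart G}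

/-- The additive identity. -/
lemma additive {f : SpecO k F ⟶ G} {P : Fin c.r → MvPowerSeries (Fin 2) k}
    {Q : MvPowerSeries (Fin 2) k} (H : Coords c f P Q) {q p n : ℕ} (hq : 0 < q) (hqp : q < p)
    (hQn : ∀ e ∈ supp Q, n ≤ iwt q p e) (hQn' : ∃ e ∈ supp Q, iwt q p e = n)
    (hPn : ∀ i, ∀ e ∈ supp (P i), n ≤ iwt q p e)
    {K : Type u} [Field K] [Algebra k K] (t s : K) (hts : AlgebraicIndependent k ![t, s]) :
    ∃ η₁ η₂ η₃ : c.B →ₐ[k] K,
      (∀ i, lead Q q p n 1 t * η₁ (c.x i) = lead (P i) q p n 1 t) ∧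
      (∀ i, lead Q q p n 1 s * η₂ (c.x i) = lead (P i) q p n 1 s) ∧
      (∀ i, lead Q q p n 1 (t + s) * η₃ (c.x i) = lead (P i) q p n 1 (t + s)) ∧
      specMap η₃ ≫ c.j = (specMap η₁ ≫ c.j) * (specMap η₂ ≫ c.j) := by
  have hp : 0 < p := hq.trans hqp
  have ht : Transcendental k t := transcendental_left hts
  have hs : Transcendental k s := transcendental_right hts
  have hts' : Transcendental k (t + s) := transcendental_add hts
  obtain ⟨e, he, hen⟩ := hQn'
  have hX : ∀ m : ℕ, (X ^ m : K⟦X⟧) ≠ 0 := fun m => pow_ne_zero _ PowerSeries.X_ne_zero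
  have h1c : constantCoeff (1 : K⟦X⟧) = 1 := map_one _
  have hc1 : constantCoeff (X ^ q * 1 : K⟦X⟧) = 0 := hX0 hq _
  have hn1 : (X ^ q * 1 : K⟦X⟧) ≠ 0 := mul_ne_zero (hX _) one_ne_zero
  have hcs : constantCoeff (X ^ q * 1 + X ^ p * C s : K⟦X⟧) = 0 := by
    rw [map_add, hX0 hq, hX0 hp, add_zero]
  have hcts : constantCoeff (X ^ q * 1 + X ^ p * C (t + s) : K⟦X⟧) = 0 := by
    rw [map_add, hX0 hq, hX0 hp, add_zero]
  obtain ⟨g₀₁, η₂, a1, a2, a3⟩ := H.exists_reduction hq hp hQn hPn (1 : K⟦X⟧) (C s)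
    (hX0 hq _) (hX0 hp _) hn1 hcs (sum_ne_zero hs)
    (by rw [h1c, constantCoeff_C]; exact lead_one_ne_zero hq hp Q n hen he hs)
  obtain ⟨g₀₂, η₃, b1, b2, b3⟩ := H.exists_reduction hq hp hQn hPn (1 : K⟦X⟧) (C (t + s))
    (hX0 hq _) (hX0 hp _) hn1 hcts (sum_ne_zero hts')
    (by rw [h1c, constantCoeff_C]; exact lead_one_ne_zero hq hp Q n hen he hts')
  have e1 : (X ^ q * (1 + X ^ (p - q) * C s) : K⟦X⟧) = X ^ q * 1 + X ^ p * C s := by
    rw [mul_add, ← _root_.mul_assoc (X ^ q) (X ^ (p - q)), ← pow_add, Nat.add_sub_cancel' hqp.le]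
  have e2 : (X ^ q * (1 + X ^ (p - q) * C s) + X ^ p * C t : K⟦X⟧) =
      X ^ q * 1 + X ^ p * C (t + s) := by
    rw [e1, map_add]; ring
  have h2c : constantCoeff (1 + X ^ (p - q) * C s : K⟦X⟧) = 1 := by
    rw [map_add, hX0 (by omega), add_zero, h1c]
  obtain ⟨g₁₂, η₁, c1, c2, c3⟩ := H.exists_reduction hq hp hQn hPn
    (1 + X ^ (p - q) * C s : K⟦X⟧) (C t)
    (hX0 hq _) (hX0 hp _) (by rw [e1]; exact sum_ne_zero hs) (by rw [e2]; exact hcts)
    (by rw [e2]; exact sum_ne_zero hts')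
    (by rw [h2c, constantCoeff_C]; exact lead_one_ne_zero hq hp Q n hen he ht)
  rw [h1c, constantCoeff_C] at a2 b2
  rw [h2c, constantCoeff_C] at c2
  refine ⟨η₁, η₂, η₃, c2, a2, b2, ?_⟩
  rw [← a3, ← b3, ← c3, ← MonObj.comp_mul]
  congr 1
  refine cocycle f _ _ _ _ _ hcs (sum_ne_zero hs) _ _ g₀₁ g₁₂ g₀₂ a1 ?_ b1
  rw [c1]
  exact diff_congr f _ _ _ _ _ _ _ _ _ _ _ _ e1 e2

/-- The multiplicative identity. -/
lemma multiplicative {f : SpecO k F ⟶ G} {P : Fin c.r → MvPowerSeries (Fin 2) k}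
    {Q : MvPowerSeries (Fin 2) k} (H : Coords c f P Q) {n : ℕ}
    (hQn : ∀ e ∈ supp Q, n ≤ iwt 1 1 e) (hQn' : ∃ e ∈ supp Q, iwt 1 1 e = n)
    (hPn : ∀ i, ∀ e ∈ supp (P i), n ≤ iwt 1 1 e)
    {K : Type u} [Field K] [Algebra k K] (t s : K) (hts : AlgebraicIndependent k ![t, s]) :
    ∃ η₁ η₂ η₃ : c.B →ₐ[k] K,
      (∀ i, lead Q 1 1 n 1 (t - 1) * η₁ (c.x i) = lead (P i) 1 1 n 1 (t - 1)) ∧
      (∀ i, lead Q 1 1 n 1 (s - 1) * η₂ (c.x i) = lead (P i) 1 1 n 1 (s - 1)) ∧
      (∀ i, lead Q 1 1 n 1 (t * s - 1) * η₃ (c.x i) = lead (P i) 1 1 n 1 (t * s - 1)) ∧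
      specMap η₃ ≫ c.j = (specMap η₁ ≫ c.j) * (specMap η₂ ≫ c.j) := by
  have hq : 0 < 1 := one_pos
  have ht : Transcendental k t := transcendental_left hts
  have hs : Transcendental k s := transcendental_right hts
  have hts' : Transcendental k (t * s) := transcendental_mul hts
  have ht1 := transcendental_sub_one ht
  have hs1 := transcendental_sub_one hs
  have hts1 := transcendental_sub_one hts'
  have hs0 : s ≠ 0 := by
    intro h; apply hs; rw [h]; exact isAlgebraic_zero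
  obtain ⟨e, he, hen⟩ := hQn'
  have hX : ∀ m : ℕ, (X ^ m : K⟦X⟧) ≠ 0 := fun m => pow_ne_zero _ PowerSeries.X_ne_zero
  have h1c : constantCoeff (1 : K⟦X⟧) = 1 := map_one _
  have hc1 : constantCoeff (X ^ 1 * 1 : K⟦X⟧) = 0 := hX0 hq _
  have hn1 : (X ^ 1 * 1 : K⟦X⟧) ≠ 0 := mul_ne_zero (hX _) one_ne_zero
  have hcs : constantCoeff (X ^ 1 * 1 + X ^ 1 * C (s - 1) : K⟦X⟧) = 0 := by
    rw [map_add, hX0 hq, hX0 hq, add_zero]
  have hcts : constantCoeff (X ^ 1 * 1 + X ^ 1 * C (t * s - 1) : K⟦X⟧) = 0 := by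
    rw [map_add, hX0 hq, hX0 hq, add_zero]
  obtain ⟨g₀₁, η₂, a1, a2, a3⟩ := H.exists_reduction hq hq hQn hPn (1 : K⟦X⟧) (C (s - 1))
    (hX0 hq _) (hX0 hq _) hn1 hcs (sum_ne_zero hs1)
    (by rw [h1c, constantCoeff_C]; exact lead_one_ne_zero hq hq Q n hen he hs1)
  obtain ⟨g₀₂, η₃, b1, b2, b3⟩ := H.exists_reduction hq hq hQn hPn (1 : K⟦X⟧) (C (t * s - 1))
    (hX0 hq _) (hX0 hq _) hn1 hcts (sum_ne_zero hts1)
    (by rw [h1c, constantCoeff_C]; exact lead_one_ne_zero hq hq Q n hen he hts1)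
  have e1 : (X ^ 1 * C s : K⟦X⟧) = X ^ 1 * 1 + X ^ 1 * C (s - 1) := by
    rw [map_sub, map_one]; ring
  have e2 : (X ^ 1 * C s + X ^ 1 * C (t * s - s) : K⟦X⟧) =
      X ^ 1 * 1 + X ^ 1 * C (t * s - 1) := by
    rw [map_sub, map_sub, map_one]; ring
  have hl : ∀ R : MvPowerSeries (Fin 2) k, lead R 1 1 n s (t * s - s) =
      s ^ n * lead R 1 1 n 1 (t - 1) := by
    intro R
    rw [← lead_mul_pow hq hq R n 1 (t - 1) s]
    congr 1
    · ring
    · ring
  obtain ⟨g₁₂, η₁, c1, c2, c3⟩ := H.exists_reduction hq hq hQn hPn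
    (C s : K⟦X⟧) (C (t * s - s))
    (hX0 hq _) (hX0 hq _) (by rw [e1]; exact sum_ne_zero hs1) (by rw [e2]; exact hcts)
    (by rw [e2]; exact sum_ne_zero hts1)
    (by
      rw [constantCoeff_C, constantCoeff_C, hl]
      exact mul_ne_zero (pow_ne_zero _ hs0) (lead_one_ne_zero hq hq Q n hen he ht1))
  rw [h1c, constantCoeff_C] at a2 b2
  rw [constantCoeff_C, constantCoeff_C] at c2
  refine ⟨η₁, η₂, η₃, ?_, a2, b2, ?_⟩
  · intro i
    have h := c2 i
    rw [hl, hl, _root_.mul_assoc] at h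
    exact mul_left_cancel₀ (pow_ne_zero _ hs0) h
  rw [← a3, ← b3, ← c3, ← MonObj.comp_mul]
  congr 1
  refine cocycle f _ _ _ _ _ hcs (sum_ne_zero hs1) _ _ g₀₁ g₁₂ g₀₂ a1 ?_ b1
  rw [c1]
  exact diff_congr f _ _ _ _ _ _ _ _ _ _ _ _ e1 e2

/-- **Theorem R**. Let `G` be a separated group scheme locally of finite type over a field `k` and
`f ∈ G(k((t)))` a point which does not extend to `G(k[[t]])`.  Then there is a non-trivial rational
point of `G` over `k(T)` which is generically additive or generically multiplicative. -/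
theorem exists_rational_hom (k : Type u) [Field k] (F : Type u) [Field F] [Algebra k F]
    [Algebra k⟦X⟧ F] [IsScalarTower k k⟦X⟧ F] [IsFractionRing k⟦X⟧ F]
    (G : Over (Spec (CommRingCat.of k))) [GrpObj G] [IsSeparated G.hom] [LocallyOfFiniteType G.hom]
    (f : SpecO k F ⟶ G)
    (hf : ∀ f' : SpecO k k⟦X⟧ ⟶ G, specMap (IsScalarTower.toAlgHom k k⟦X⟧ F) ≫ f' ≠ f) :
    ∃ (β : Polynomial k) (_ : β ≠ 0) (h : SpecO k (Localization.Away β) ⟶ G), h ≠ 1 ∧
      ((∀ (K : Type u) [Field K] [Algebra k K] (t s : K), AlgebraicIndependent k ![t, s] →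
        ∀ x y z : Localization.Away β →ₐ[k] K,
          x (algebraMap (Polynomial k) _ Polynomial.X) = t →
          y (algebraMap (Polynomial k) _ Polynomial.X) = s →
          z (algebraMap (Polynomial k) _ Polynomial.X) = t + s →
          specMap z ≫ h = (specMap x ≫ h) * (specMap y ≫ h)) ∨
       (∀ (K : Type u) [Field K] [Algebra k K] (t s : K), AlgebraicIndependent k ![t, s] →
        ∀ x y z : Localization.Away β →ₐ[k] K,
          x (algebraMap (Polynomial k) _ Polynomial.X) = t →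
          y (algebraMap (Polynomial k) _ Polynomial.X) = s →
          z (algebraMap (Polynomial k) _ Polynomial.X) = t * s →
          specMap z ≫ h = (specMap x ≫ h) * (specMap y ≫ h))) := by
  obtain ⟨c⟩ := exists_chart G
  obtain ⟨P, Q, h1, h2, h3⟩ := exists_coords c f
  have H : Coords c f P Q := ⟨h1, h2, h3⟩
  obtain ⟨l, hl1, hl2, hl3⟩ := Coords.exists_critical H (by
    rintro ⟨f', hf'⟩; exact hf f' hf')
  -- write the slope as a fraction
  have hl0 : 0 < l := zero_lt_one.trans_le hl1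
  have hnum : 0 < l.num := Rat.num_pos.2 hl0
  obtain ⟨p, q, hp, hq, hlpq, hcop⟩ : ∃ p q : ℕ, 0 < p ∧ 0 < q ∧ l = (p : ℚ) / q ∧
      Nat.Coprime p q := by
    refine ⟨l.num.natAbs, l.den, by omega, l.den_pos, ?_, l.reduced⟩
    have h5 : ((l.num.natAbs : ℕ) : ℚ) = (l.num : ℚ) := by
      have h6 : ((l.num.natAbs : ℕ) : ℤ) = l.num := Int.natAbs_of_nonneg hnum.le
      rw [← Int.cast_natCast, h6]
    rw [h5, Rat.num_div_den]
  have hqp : q ≤ p := by
    rw [hlpq, le_div_iff₀ (by exact_mod_cast hq), _root_.one_mul] at hl1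
    exact_mod_cast hl1
  obtain ⟨m, hm, -⟩ := h2
  obtain ⟨n, hn, hn'⟩ := exists_min_iwt Q ⟨m, hm⟩ q p
  have hPn : ∀ i, ∀ e ∈ supp (P i), n ≤ iwt q p e := by
    intro i e he
    obtain ⟨v, hv, hv'⟩ := exists_of_critical (SP := SP P) (SQ := supp Q) (p := p) hq
      (by intro l' hl'; exact hl3 l' (by rw [hlpq]; exact hl')) ⟨i, he⟩
    rcases hv' with hv' | ⟨hv', -⟩
    · exact (hn v hv).trans hv'.le
    · exact (hn v hv).trans hv'.le
  -- a coordinate which does not reduce to zero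
  obtain ⟨i₀, e₀, he₀, hen₀⟩ : ∃ i, ∃ e ∈ supp (P i), iwt q p e = n := by
    rw [hlpq, good_iff hq hn hn'] at hl2
    push Not at hl2
    obtain ⟨i, e, he, hle⟩ := hl2
    exact ⟨i, e, he, le_antisymm hle (hPn i e he)⟩
  have hlP : leadPoly (P i₀) q p n ≠ 0 := by
    intro h
    apply he₀
    rw [← coeff_leadPoly hq hp (P i₀) n e₀ hen₀, h, Polynomial.coeff_zero]
  have hne : ∀ (g : Polynomial k), Transcendental k g → ∀ ζ : c.B →ₐ[k]
      Localization.Away ((leadPoly Q q p n).comp g), (leadPoly Q q p n).comp g ≠ 0 →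
      (∀ i, algebraMap _ (Localization.Away ((leadPoly Q q p n).comp g))
        ((leadPoly Q q p n).comp g) * ζ (c.x i) =
          algebraMap _ _ ((leadPoly (P i) q p n).comp g)) → specMap ζ ≫ c.j ≠ 1 := by
    intro g hg ζ hβ hζ h
    rw [← specMap_unit c] at h
    have h6 := alg_unique c.j h
    have h7 := hζ i₀
    have h8 : ζ (c.x i₀) = 0 := by
      rw [h6]
      change Algebra.ofId k _ (c.eps (c.x i₀)) = 0
      rw [c.eps_x, map_zero]
    rw [h8, mul_zero] at h7
    have h9 : Function.Injective (algebraMap (Polynomial k)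
        (Localization.Away ((leadPoly Q q p n).comp g))) :=
      IsLocalization.injective _ (powers_le_nonZeroDivisors_of_noZeroDivisors hβ)
    have h10 : (leadPoly (P i₀) q p n).comp g = 0 := h9 (by rw [← h7, map_zero])
    apply hg
    exact ⟨_, hlP, by rw [← Polynomial.comp_eq_aeval]; exact h10⟩
  rcases hqp.lt_or_eq with hlt | heq
  · -- additive case
    have hg : Transcendental k (Polynomial.X : Polynomial k) := Polynomial.transcendental_X k
    obtain ⟨hβ, ζ, hζ⟩ := exists_zeta H hq hp hn hn' hPn Polynomial.X hg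
    refine ⟨_, hβ, specMap ζ ≫ c.j, hne _ hg ζ hβ hζ, Or.inl ?_⟩
    intro K _ _ t s hts x y z hx hy hz
    obtain ⟨η₁, η₂, η₃, a1, a2, a3, a4⟩ := additive H hq hlt hn hn' hPn t s hts
    have b1 := comp_zeta Polynomial.X ζ hζ x t hx η₁ (by simpa only [Polynomial.aeval_X] using a1)
    have b2 := comp_zeta Polynomial.X ζ hζ y s hy η₂ (by simpa only [Polynomial.aeval_X] using a2)
    have b3 := comp_zeta Polynomial.X ζ hζ z (t + s) hz η₃
      (by simpa only [Polynomial.aeval_X] using a3)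
    rw [← Category.assoc, ← Category.assoc, ← Category.assoc, specMap_comp, specMap_comp,
      specMap_comp, b1, b2, b3, a4]
  · -- multiplicative case
    have hq1 : q = 1 := by
      rw [← heq] at hcop
      exact (Nat.coprime_self q).1 hcop
    subst hq1
    subst heq
    have hg : Transcendental k (Polynomial.X - 1 : Polynomial k) := by
      intro h
      apply Polynomial.transcendental_X k
      have h5 : (Polynomial.X : Polynomial k) = (Polynomial.X - 1) + 1 := by ring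
      rw [h5]
      exact h.add isAlgebraic_one
    obtain ⟨hβ, ζ, hζ⟩ := exists_zeta H hq hp hn hn' hPn (Polynomial.X - 1) hg
    refine ⟨_, hβ, specMap ζ ≫ c.j, hne _ hg ζ hβ hζ, Or.inr ?_⟩
    intro K _ _ t s hts x y z hx hy hz
    obtain ⟨η₁, η₂, η₃, a1, a2, a3, a4⟩ := multiplicative H hn hn' hPn t s hts
    have hev : ∀ b : K, Polynomial.aeval b (Polynomial.X - 1 : Polynomial k) = b - 1 := by
      intro b
      rw [map_sub, Polynomial.aeval_X, map_one]
    have b1 := comp_zeta (Polynomial.X - 1) ζ hζ x t hx η₁ (by simpa only [hev] using a1)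
    have b2 := comp_zeta (Polynomial.X - 1) ζ hζ y s hy η₂ (by simpa only [hev] using a2)
    have b3 := comp_zeta (Polynomial.X - 1) ζ hζ z (t * s) hz η₃
      (by simpa only [hev] using a3)
    rw [← Category.assoc, ← Category.assoc, ← Category.assoc, specMap_comp, specMap_comp,
      specMap_comp, b1, b2, b3, a4]

end main

end Groth.Agent.Sga7.H741.TheoremR
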