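import Groth.Agent.Sga7.H760.Ker
import Groth.Agent.Grpsch.AbBC
import Groth.Agent.Sga3B.BcPts
import Groth.Agent.UnramA.LfpOfComp
import Groth.Agent.S3042
import Groth.Prelude.Def_SGA7IX
import Mathlib.AlgebraicGeometry.Morphisms.SchemeTheoreticallyDominant
import Mathlib.AlgebraicGeometry.Morphisms.FlatMono

/-!
# The end step for S4060 / S4080

A homomorphism `u : G ⟶ H` of group schemes over `S`, flat and locally of finite presentation with `G` separated: if
`t ⤳ s` and `u_t` is a monomorphism then `u_s` is an open immersion.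
-/

set_option autoImplicit false
universe u
open CategoryTheory CategoryTheory.Limits AlgebraicGeometry MonObj CartesianMonoidalCategory

namespace Groth.Agent.Sga7.H741.EndStep

/-- A flat separated morphism with a section which becomes a monomorphism after base change along a schematically
dominant quasi-compact morphism is an isomorphism. -/
lemma isIso_of_dominant {S T N : Scheme.{u}} (p : N ⟶ S) [Flat p] [IsSeparated p] (e : S ⟶ N) (he : e ≫ p = 𝟙 S)
    (j : T ⟶ S) [IsSchemeTheoreticallyDominant j] [QuasiCompact j] [Mono (pullback.snd p j)] : IsIso p := by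
  have h1 : IsClosedImmersion e := by
    have : IsClosedImmersion (e ≫ p) := by rw [he]; infer_instance
    exact IsClosedImmersion.of_comp e p
  let eT : T ⟶ pullback p j := pullback.lift (j ≫ e) (𝟙 T) (by rw [Category.assoc, he]; simp)
  have h2 : eT ≫ pullback.snd p j = 𝟙 T := pullback.lift_snd _ _ _
  have h3 : pullback.snd p j ≫ eT = 𝟙 _ := by
    rw [← cancel_mono (pullback.snd p j), Category.assoc, h2, Category.comp_id, Category.id_comp]
  have h4 : pullback.fst p j = (pullback.snd p j ≫ j) ≫ e := by
    have h5 : eT ≫ pullback.fst p j = j ≫ e := pullback.lift_fst _ _ _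
    rw [Category.assoc, ← h5, ← Category.assoc, h3, Category.id_comp]
  have h5 : e.ker = ⊥ := by
    have h6 := Scheme.Hom.le_ker_comp (pullback.snd p j ≫ j) e
    rw [← h4, (pullback.fst p j).ker_eq_bot] at h6
    exact le_bot_iff.mp h6
  have h6 : IsIso e := IsClosedImmersion.isIso_iff_ker_eq_bot.mpr h5
  have : IsIso (e ≫ p) := by rw [he]; infer_instance
  exact IsIso.of_isIso_comp_left e p

lemma dominant_SpecMap {A B : CommRingCat.{u}} [IsDomain A] (φ : A ⟶ B) (h : Function.Injective φ.hom) :
    IsSchemeTheoreticallyDominant (Spec.map φ) := by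
  have : IsDominant (Spec.map φ) := by
    rw [isDominant_iff]
    have h1 := (PrimeSpectrum.denseRange_comap_iff_ker_le_nilRadical φ.hom).mpr (by
      rw [(RingHom.injective_iff_ker_eq_bot _).mp h]
      exact bot_le)
    exact h1
  exact .of_isDominant _

lemma mono_snd_iff {S T X Y : Scheme.{u}} {f : X ⟶ S} {g : T ⟶ S} {q : Y ⟶ T} {p : Y ⟶ X}
    (h : IsPullback p q f g) : Mono (pullback.snd f g) ↔ Mono q := by
  rw [← h.isoPullback_hom_snd]
  constructor
  · intro h; infer_instance
  · intro h'
    have : pullback.snd f g = h.isoPullback.inv ≫ h.isoPullback.hom ≫ pullback.snd f g := by simp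
    rw [this]
    infer_instance

lemma isIso_snd_iff {S T X Y : Scheme.{u}} {f : X ⟶ S} {g : T ⟶ S} {q : Y ⟶ T} {p : Y ⟶ X}
    (h : IsPullback p q f g) : IsIso (pullback.snd f g) ↔ IsIso q := by
  rw [← h.isoPullback_hom_snd]
  constructor
  · intro h; infer_instance
  · intro h'
    have : pullback.snd f g = h.isoPullback.inv ≫ h.isoPullback.hom ≫ pullback.snd f g := by simp
    rw [this]
    infer_instance

lemma flat_snd_of {S T X Y : Scheme.{u}} {f : X ⟶ S} {g : T ⟶ S} {q : Y ⟶ T} {p : Y ⟶ X}
    (h : IsPullback p q f g) (hq : Flat q) : Flat (pullback.snd f g) := by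
  have : pullback.snd f g = h.isoPullback.inv ≫ q := h.isoPullback_inv_snd.symm
  rw [this]
  infer_instance

lemma exists_factor {A K κ : Type u} [CommRing A] [Field K] [Field κ] (φ : A →+* K) (ρ : A →+* κ)
    (hρ : ∀ a, ρ a ≠ 0 → IsUnit a) : ∃ (D : Type u) (_ : CommRing D) (_ : IsDomain D) (π : A →+* D)
      (ψ : D →+* K) (χ : D →+* κ), ψ.comp π = φ ∧ Function.Injective ψ ∧ χ.comp π = ρ := by
  have hψ : Function.Injective (RingHom.kerLift φ) := RingHom.kerLift_injective φ
  refine ⟨A ⧸ RingHom.ker φ, inferInstance, hψ.isDomain (RingHom.kerLift φ), Ideal.Quotient.mk _, RingHom.kerLift φ,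
    Ideal.Quotient.lift _ ρ ?_, ?_, hψ, ?_⟩
  · intro a ha
    by_contra h0
    have h4 : IsUnit (φ a) := (hρ a h0).map φ
    rw [RingHom.mem_ker.mp ha] at h4
    exact not_isUnit_zero h4
  · ext x
    exact RingHom.kerLift_mk φ x
  · ext x
    rfl

/-- A separated morphism with a section, trivial fibre over `t` and flat over the local ring of a specialization `s`
of `t` has trivial fibre over `s`. -/
theorem isIso_fibre {S N : Scheme.{u}} (p : N ⟶ S) [IsSeparated p] (e : S ⟶ N) (he : e ≫ p = 𝟙 S)
    (s t : S) (hts : t ⤳ s) (hfl : Flat (pullback.snd p (S.fromSpecStalk s)))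
    (hm : Mono (pullback.snd p (S.fromSpecResidueField t))) :
    IsIso (pullback.snd p (S.fromSpecResidueField s)) := by
  let φ : S.presheaf.stalk s ⟶ S.residueField t := S.presheaf.stalkSpecializes hts ≫ S.residue t
  obtain ⟨D, _, hD, π, ψ, χ, hπψ, hψ, hπχ⟩ := exists_factor φ.hom (S.residue s).hom (by
    intro a ha
    exact (IsLocalRing.residue_ne_zero_iff_isUnit a).mp ha)
  have hπψ' : CommRingCat.ofHom π ≫ CommRingCat.ofHom ψ = φ := CommRingCat.hom_ext hπψ
  have hπχ' : CommRingCat.ofHom π ≫ CommRingCat.ofHom χ = S.residue s := CommRingCat.hom_ext hπχ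
  let g : Spec (CommRingCat.of D) ⟶ S := Spec.map (CommRingCat.ofHom π) ≫ S.fromSpecStalk s
  let j : Spec (S.residueField t) ⟶ Spec (CommRingCat.of D) := Spec.map (CommRingCat.ofHom ψ)
  have hj : IsSchemeTheoreticallyDominant j := dominant_SpecMap _ hψ
  have hjg : j ≫ g = S.fromSpecResidueField t := by
    have h1 : j ≫ Spec.map (CommRingCat.ofHom π) = Spec.map φ := by
      rw [← hπψ', Spec.map_comp]
      rfl
    change j ≫ Spec.map _ ≫ _ = _
    rw [← Category.assoc, h1]
    change Spec.map (_ ≫ _) ≫ _ = _
    rw [Spec.map_comp, Category.assoc, Scheme.SpecMap_stalkSpecializes_fromSpecStalk]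
    rfl
  -- the base change to `Spec D`
  let pD : pullback p g ⟶ Spec (CommRingCat.of D) := pullback.snd p g
  let eD : Spec (CommRingCat.of D) ⟶ pullback p g :=
    pullback.lift (g ≫ e) (𝟙 _) (by rw [Category.assoc, he]; simp)
  have heD : eD ≫ pD = 𝟙 _ := pullback.lift_snd _ _ _
  have hpD : Flat pD := by
    have h1 := (IsPullback.of_hasPullback (pullback.snd p (S.fromSpecStalk s))
      (Spec.map (CommRingCat.ofHom π))).flip.paste_vert (IsPullback.of_hasPullback p (S.fromSpecStalk s)).flip
    exact flat_snd_of h1.flip inferInstance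
  have hmD : Mono (pullback.snd pD j) := by
    have h1 := (IsPullback.of_hasPullback pD j).flip.paste_vert (IsPullback.of_hasPullback p g).flip
    rw [hjg] at h1
    exact (mono_snd_iff h1.flip).mp hm
  have hiso : IsIso pD := isIso_of_dominant pD eD heD j
  -- the closed point of `Spec D`
  have hχg : Spec.map (CommRingCat.ofHom χ) ≫ g = S.fromSpecResidueField s := by
    change Spec.map _ ≫ Spec.map _ ≫ _ = _
    rw [← Category.assoc, ← Spec.map_comp, hπχ']
    rfl
  have h1 := (IsPullback.of_hasPullback pD (Spec.map (CommRingCat.ofHom χ))).flip.paste_vert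
    (IsPullback.of_hasPullback p g).flip
  rw [hχg] at h1
  exact (isIso_snd_iff h1.flip).mpr inferInstance

variable {S : Scheme.{u}} {G H : Over S} [GrpObj G] [GrpObj H]

open Groth.Agent.Sga7.H760.Ker Groth.Agent.Grpsch

open Groth.Agent.Sga3B.BcPts MonoidalCategory in
lemma bcEquiv_symm_left {S' : Scheme.{u}} (q : S' ⟶ S) {T : Over S'} {X : Over S} (y : T ⟶ Red.bc q X) :
    ((bcEquiv q T X).symm y).left = y.left ≫ pullback.fst X.hom q := by
  rw [bcEquiv, Adjunction.homEquiv_counit, Over.mapPullbackAdj_counit_app, Over.comp_left]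
  rfl

open Groth.Agent.Sga3B.BcPts MonoidalCategory in
/-- the unit section of a base change -/
lemma unit_bc {S' : Scheme.{u}} (q : S' ⟶ S) (G : Over S) [GrpObj G] :
    unit (Red.bc q G) ≫ pullback.fst G.hom q = q ≫ unit G := by
  have h1 : (bcMulEquiv q (𝟙_ _) G).symm η[Red.bc q G] = 1 := by
    rw [one_eq_one, map_one]
  have h2 := bcEquiv_symm_left q η[Red.bc q G]
  change (η[Red.bc q G] : 𝟙_ _ ⟶ Red.bc q G).left ≫ pullback.fst G.hom q =
      q ≫ (η[G] : 𝟙_ (Over S) ⟶ G).left
  rw [← h2]
  have h3 : (1 : (Over.map q).obj (𝟙_ (Over S')) ⟶ G) = toUnit _ ≫ η[G] := rfl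
  have h4 : (bcEquiv q (𝟙_ _) G).symm η[Red.bc q G] = toUnit _ ≫ η[G] := h1.trans h3
  rw [h4, Over.comp_left]
  congr 1

omit [GrpObj G] in
/-- the kernel of the base change of `u` is the base change of the kernel. -/
lemma isPullback_ker {S' : Scheme.{u}} (q : S' ⟶ S) (u : G ⟶ H) :
    ∃ a, IsPullback a (pullback.snd ((Over.pullback q).map u).left (unit (Red.bc q H)))
      (pullback.snd u.left (unit H)) q := by
  have sq1 := (AbBC.isPullback_pullback_map q u).flip
  have sq2 := (IsPullback.of_hasPullback ((Over.pullback q).map u).left (unit (Red.bc q H)))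
  have h := sq2.paste_horiz sq1
  have h1 : unit (Red.bc q H) ≫ pullback.fst H.hom q = q ≫ unit H := unit_bc q H
  rw [h1] at h
  exact ⟨_, IsPullback.of_right' h (IsPullback.of_hasPullback u.left (unit H))⟩

/-- a homomorphism with trivial kernel is a monomorphism -/
lemma mono_of_isIso_ker (u : G ⟶ H) [IsMonHom u] (h : IsIso (pullback.snd u.left (unit H))) : Mono u.left := by
  obtain ⟨d, hd⟩ := Groth.Agent.Sga3C.KerSquare.isPullback_fst_ker u
  have h1 : IsIso (pullback.fst u.left u.left) :=
    MorphismProperty.of_isPullback (P := MorphismProperty.isomorphisms Scheme.{u}) hd.flip h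
  exact IsKernelPair.mono_of_isIso_fst (IsPullback.of_hasPullback u.left u.left)

omit [GrpObj G] [GrpObj H] in
/-- The base change of `u` along `r ≫ f` is a base change of the base change along `f`. -/
lemma isPullback_comp_map {S'' S' : Scheme.{u}} (r : S'' ⟶ S') (f : S' ⟶ S) (u : G ⟶ H) :
    ∃ a b, IsPullback a ((Over.pullback (r ≫ f)).map u).left ((Over.pullback f).map u).left b := by
  have h1 := (AbBC.isPullback_pullback_map (r ≫ f) u).flip
  have h2 := (AbBC.isPullback_pullback_map f u).flip
  have h3 : pullback.fst H.hom (r ≫ f) = pullback.lift (pullback.fst H.hom (r ≫ f))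
      (pullback.snd H.hom (r ≫ f) ≫ r) (by rw [pullback.condition, Category.assoc]) ≫ pullback.fst H.hom f :=
    (pullback.lift_fst _ _ _).symm
  rw [h3] at h1
  exact ⟨_, _, IsPullback.of_right' h1 h2⟩

variable (u : G ⟶ H)

/-- the unit section of the kernel -/
lemma exists_section [IsMonHom u] : ∃ e : S ⟶ pullback u.left (unit H), e ≫ pullback.snd u.left (unit H) = 𝟙 S :=
  ⟨pullback.lift (unit G) (𝟙 S) (by
    have h : η[G] ≫ u = η[H] := IsMonHom.one_hom u
    have h2 : unit G ≫ u.left = unit H := by
      change (η[G] : _ ⟶ G).left ≫ u.left = (η[H] : _ ⟶ H).left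
      rw [← Over.comp_left, h]
    rw [h2, Category.id_comp]), pullback.lift_snd _ _ _⟩

omit [GrpObj G] [GrpObj H] in
lemma isSeparated_left [IsSeparated G.hom] : IsSeparated u.left := by
  have : IsSeparated (u.left ≫ H.hom) := by rw [Over.w]; infer_instance
  exact IsSeparated.of_comp u.left H.hom

omit [GrpObj G] [GrpObj H] in
lemma lfp_left [LocallyOfFinitePresentation G.hom] [LocallyOfFiniteType H.hom] :
    LocallyOfFinitePresentation u.left :=
  UnramA.LfpOfComp.lfp_of_comp u.left H.hom (by rw [Over.w]; infer_instance) inferInstance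

omit [GrpObj G] in
lemma mono_ker_of_mono (t : S) [Mono (SGA7.fibreHom t u)] :
    Mono (pullback.snd (pullback.snd u.left (unit H)) (S.fromSpecResidueField t)) := by
  obtain ⟨a, ha⟩ := isPullback_ker (S.fromSpecResidueField t) u
  have h1 : Mono ((Over.pullback (S.fromSpecResidueField t)).map u).left :=
    inferInstanceAs (Mono ((Over.forget _).map (SGA7.fibreHom t u)))
  exact (mono_snd_iff ha).mpr inferInstance

omit [GrpObj G] in
/-- Flatness of the kernel over the local ring at `s ∈ U` if `u` is flat over `U`. -/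
lemma flat_ker (U : S.Opens) (s : S) (hs : s ∈ U) [hf : Flat ((Over.pullback U.ι).map u).left] :
    Flat (pullback.snd (pullback.snd u.left (unit H)) (S.fromSpecStalk s)) := by
  obtain ⟨a, ha⟩ := isPullback_ker U.ι u
  let r := U.fromSpecStalkOfMem s hs
  have hr : r ≫ U.ι = S.fromSpecStalk s := U.fromSpecStalkOfMem_ι s hs
  have h1 := (IsPullback.of_hasPullback (pullback.snd ((Over.pullback U.ι).map u).left
    (unit (Red.bc U.ι H))) r).flip.paste_vert ha.flip
  rw [hr] at h1
  exact flat_snd_of h1.flip inferInstance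

/-- The fibre of the kernel over `s` is trivial if `u` is flat over a neighbourhood of `s` and a monomorphism over
a generization of `s`. -/
theorem isIso_ker_fibre [IsMonHom u] [IsSeparated G.hom] (U : S.Opens) (s t : S) (hs : s ∈ U) (hts : t ⤳ s)
    [Flat ((Over.pullback U.ι).map u).left] [Mono (SGA7.fibreHom t u)] :
    IsIso (pullback.snd (pullback.snd u.left (unit H)) (S.fromSpecResidueField s)) := by
  have := isSeparated_left u
  obtain ⟨e, he⟩ := exists_section u
  exact isIso_fibre _ e he s t hts (flat_ker u U s hs) (mono_ker_of_mono u t)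

/-- **End step**, fibrewise form (S4080). -/
theorem isOpenImmersion_fibreHom [IsMonHom u] [IsSeparated G.hom] [LocallyOfFinitePresentation G.hom] [LocallyOfFiniteType H.hom]
    (U : S.Opens) (s t : S) (hs : s ∈ U) (hts : t ⤳ s) [Flat ((Over.pullback U.ι).map u).left]
    [Mono (SGA7.fibreHom t u)] : IsOpenImmersion (SGA7.fibreHom s u).left := by
  obtain ⟨b, hb⟩ := isPullback_ker (S.fromSpecResidueField s) u
  have h4 := (isIso_snd_iff hb).mp (isIso_ker_fibre u U s t hs hts)
  have h5 : IsMonHom ((Over.pullback (S.fromSpecResidueField s)).map u) := inferInstance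
  have h6 : Mono (SGA7.fibreHom s u).left := mono_of_isIso_ker _ h4
  have h7 : Flat (SGA7.fibreHom s u).left := by
    have h8 : (Spec.map (S.residue s) ≫ U.fromSpecStalkOfMem s hs) ≫ U.ι = S.fromSpecResidueField s := by
      rw [Category.assoc, U.fromSpecStalkOfMem_ι]
      rfl
    obtain ⟨a, b, h⟩ := isPullback_comp_map (Spec.map (S.residue s) ≫ U.fromSpecStalkOfMem s hs) U.ι u
    have h9 : Flat ((Over.pullback ((Spec.map (S.residue s) ≫ U.fromSpecStalkOfMem s hs) ≫ U.ι)).map u).left :=
      MorphismProperty.of_isPullback (P := @Flat) h inferInstance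
    rwa [h8] at h9
  have h9 := lfp_left u
  have sq := (AbBC.isPullback_pullback_map (S.fromSpecResidueField s) u).flip
  have h8 : LocallyOfFinitePresentation (SGA7.fibreHom s u).left :=
    MorphismProperty.of_isPullback (P := @LocallyOfFinitePresentation) sq inferInstance
  exact IsOpenImmersion.of_flat_of_mono _

/-- **End step**, over an open set all of whose points are specializations of `t` (S4060). -/
theorem isOpenImmersion_of_flat [IsMonHom u] [IsSeparated G.hom] [LocallyOfFinitePresentation G.hom] [LocallyOfFiniteType H.hom]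
    (U : S.Opens) (t : S) (ht : ∀ x ∈ U, t ⤳ x) [Flat ((Over.pullback U.ι).map u).left]
    [Mono (SGA7.fibreHom t u)] : IsOpenImmersion ((Over.pullback U.ι).map u).left := by
  have h5 : IsMonHom ((Over.pullback U.ι).map u) := inferInstance
  obtain ⟨a, ha⟩ := isPullback_ker U.ι u
  have h9 := lfp_left u
  have sq := (AbBC.isPullback_pullback_map U.ι u).flip
  have h8 : LocallyOfFinitePresentation ((Over.pullback U.ι).map u).left :=
    MorphismProperty.of_isPullback (P := @LocallyOfFinitePresentation) sq inferInstance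
  let p := pullback.snd ((Over.pullback U.ι).map u).left (unit (Red.bc U.ι H))
  have hp : ∀ x : U, IsIso (pullback.snd p (Scheme.fromSpecResidueField _ x)) := by
    intro x
    have h1 := isIso_ker_fibre u U x.1 t x.2 (ht _ x.2)
    have h2 := (IsPullback.of_hasPullback p (Scheme.fromSpecResidueField _ x)).flip.paste_vert ha.flip
    have h3 : Scheme.fromSpecResidueField _ x ≫ U.ι = Spec.map (U.ι.residueFieldMap x) ≫
        S.fromSpecResidueField x.1 := by
      exact (Scheme.Hom.SpecMap_residueFieldMap_fromSpecResidueField U.ι x).symm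
    rw [h3] at h2
    have h4 := (IsPullback.of_hasPullback (pullback.snd (pullback.snd u.left (unit H)) (S.fromSpecResidueField x.1))
      (Spec.map (U.ι.residueFieldMap x))).flip.paste_vert (IsPullback.of_hasPullback _ _).flip
    exact (isIso_snd_iff h2.flip).mp ((isIso_snd_iff h4.flip).mpr inferInstance)
  have hmono : Mono p := by
    refine (S3042.result _ _ p).mpr fun y => ?_
    have := hp y
    exact inferInstanceAs (Mono (pullback.snd p (Scheme.fromSpecResidueField _ y)))
  obtain ⟨e, he⟩ := exists_section ((Over.pullback U.ι).map u)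
  have hsplit : IsSplitEpi p := ⟨⟨⟨e, he⟩⟩⟩
  have hiso : IsIso p := isIso_of_mono_of_isSplitEpi p
  have h6 : Mono ((Over.pullback U.ι).map u).left := mono_of_isIso_ker _ hiso
  exact IsOpenImmersion.of_flat_of_mono _

end Groth.Agent.Sga7.H741.EndStep
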