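import Groth.Agent.Sga7.H741.Gauss
import Groth.Agent.Sga7.H733.BCProps

/-!
# `GV`: Gauss valuations along the comultiplication of a commutative group scheme
-/

set_option autoImplicit false
universe u

open CategoryTheory CategoryTheory.Limits MonoidalCategory CartesianMonoidalCategory AlgebraicGeometry TopologicalSpace
open scoped MonObj TensorProduct
open Groth.Agent.Dix.Center Groth.Agent.Grpsch.GrowthFF

namespace Groth.Agent.Sga7.H741.GaussGV

open Groth.Agent.Sga7.H730.Dv Groth.Agent.Sga7.H730.Tr GaussAlg GaussLoc Gauss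
open Groth.Agent.Sga7.H733.Eff Groth.Agent.Sga7.H733.BCProps

variable {k : Type u} [Field k] (H : Over (Spec (CommRingCat.of k))) [AlgebraicGeometry.IsIntegral H.left]

lemma isStr_kAlg : @IsStr k _ H _ (Groth.Agent.Sga7.H733.Eff.kAlg H) := by
  let _ : Algebra k H.left.functionField := Groth.Agent.Sga7.H733.Eff.kAlg H
  let _ : H.left.Over (Spec (CommRingCat.of k)) := ⟨H.hom⟩
  change H.left.fromSpecStalk (genericPoint H.left) ≫ H.hom =
    Spec.map (Groth.Agent.Grpsch.GrowthFF.kSec H.left k ⊤ ≫ H.left.presheaf.germ ⊤ (genericPoint H.left) trivial)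
  apply ext_of_isAffine
  have h1 : (Spec.map (Groth.Agent.Grpsch.GrowthFF.kSec H.left k ⊤ ≫ H.left.presheaf.germ ⊤ (genericPoint H.left) trivial)).appTop =
      (Scheme.ΓSpecIso (CommRingCat.of k)).hom ≫ (Groth.Agent.Grpsch.GrowthFF.kSec H.left k ⊤ ≫
        H.left.presheaf.germ ⊤ (genericPoint H.left) trivial) ≫
        (Scheme.ΓSpecIso (H.left.presheaf.stalk (genericPoint H.left))).inv := by
    rw [Scheme.ΓSpecIso_inv_naturality, Iso.hom_inv_id_assoc]
  have h2 : Groth.Agent.Grpsch.GrowthFF.kSec H.left k ⊤ = (Scheme.ΓSpecIso (CommRingCat.of k)).inv ≫ H.hom.appTop := by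
    have : H.left.presheaf.map (homOfLE (le_top : (⊤ : H.left.Opens) ≤ ⊤)).op = 𝟙 _ :=
      H.left.presheaf.map_id _
    change (Scheme.ΓSpecIso (CommRingCat.of k)).inv ≫ H.hom.appTop ≫
      H.left.presheaf.map (homOfLE (le_top : (⊤ : H.left.Opens) ≤ ⊤)).op = _
    rw [this, Category.comp_id]
  rw [h1, h2, Scheme.Hom.comp_appTop, Scheme.fromSpecStalk_appTop]
  have h3 : (Spec (H.left.presheaf.stalk (genericPoint H.left))).presheaf.map
      (homOfLE (le_top : (⊤ : (Spec (H.left.presheaf.stalk (genericPoint H.left))).Opens) ≤ ⊤)).op = 𝟙 _ :=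
    (Spec (H.left.presheaf.stalk (genericPoint H.left))).presheaf.map_id _
  simp only [Category.assoc, Iso.hom_inv_id_assoc]
  rw [h3, Category.comp_id]

theorem gv (k : Type u) [Field k] [IsAlgClosed k] : GV k := by
  intro H _ _ _ _ _ _ R _ hR
  let _ : Algebra k H.left.functionField := Groth.Agent.Sga7.H733.Eff.kAlg H
  have hF : IsStr H := isStr_kAlg H
  -- an affine neighbourhood of the origin
  let e0 : P k k ⟶ H := 1
  obtain ⟨V, hV, hVe, -⟩ := exists_isAffineOpen_mem_and_subset (X := H.left) (U := ⊤)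
    (x := e0.left (IsLocalRing.closedPoint k)) trivial
  let b0 : CommRingCat.of k ⟶ Γ(H.left, V) := Spec.preimage (hV.fromSpec ≫ H.hom)
  let _ : Algebra k Γ(H.left, V) := b0.hom.toAlgebra
  have hb0 : hV.fromSpec ≫ H.hom = Spec.map (CommRingCat.ofHom (algebraMap k Γ(H.left, V))) :=
    (Spec.map_preimage _).symm
  let zB : P k Γ(H.left, V) ⟶ H := Over.homMk hV.fromSpec hb0
  have hrange : Set.range e0.left ⊆ Set.range hV.fromSpec := by
    rw [hV.range_fromSpec]
    rintro _ ⟨y, rfl⟩
    have : y = IsLocalRing.closedPoint k := Subsingleton.elim (α := PrimeSpectrum k) _ _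
    rw [this]
    exact hVe
  let l0 : Spec (CommRingCat.of k) ⟶ Spec Γ(H.left, V) := IsOpenImmersion.lift hV.fromSpec e0.left hrange
  have hl0 : l0 ≫ hV.fromSpec = e0.left := IsOpenImmersion.lift_fac _ _ _
  let ε0 : Γ(H.left, V) ⟶ CommRingCat.of k := Spec.preimage l0
  have hε0 : Spec.map ε0 = l0 := Spec.map_preimage l0
  have hεk : ∀ a : k, ε0.hom (algebraMap k Γ(H.left, V) a) = a := by
    have h : Spec.map (CommRingCat.ofHom (algebraMap k Γ(H.left, V)) ≫ ε0) =
        Spec.map (CommRingCat.ofHom (algebraMap k k)) := by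
      rw [Spec.map_comp, hε0, ← hb0, ← Category.assoc, hl0]
      exact Over.w e0
    intro a
    exact DFunLike.congr_fun (congrArg CommRingCat.Hom.hom (Spec.map_injective h)) a
  let ε : Γ(H.left, V) →ₐ[k] k := ⟨ε0.hom, hεk⟩
  have hε : pm ε ≫ zB = 1 := by
    apply Over.OverMorphism.ext
    rw [Over.comp_left, pm_left]
    change Spec.map ε0 ≫ hV.fromSpec = e0.left
    rw [hε0, hl0]
  have hη : genericPoint H.left ∈ V :=
    ((genericPoint_spec H.left).mem_open_set_iff V.isOpen).2 ⟨_, trivial, hVe⟩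
  let ρ0 : Γ(H.left, V) ⟶ H.left.functionField := H.left.presheaf.germ V (genericPoint H.left) hη
  have hρ0 : Spec.map ρ0 ≫ hV.fromSpec = H.left.fromSpecStalk (genericPoint H.left) :=
    hV.fromSpecStalk_eq_fromSpecStalk hη
  have hρk : ∀ a : k, ρ0.hom (algebraMap k Γ(H.left, V) a) = algebraMap k H.left.functionField a := by
    have h : Spec.map (CommRingCat.ofHom (algebraMap k Γ(H.left, V)) ≫ ρ0) =
        Spec.map (CommRingCat.ofHom (algebraMap k H.left.functionField)) := by
      rw [Spec.map_comp, ← hb0, ← Category.assoc, hρ0]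
      exact hF
    intro a
    exact DFunLike.congr_fun (congrArg CommRingCat.Hom.hom (Spec.map_injective h)) a
  let ρ : Γ(H.left, V) →ₐ[k] H.left.functionField := ⟨ρ0.hom, hρk⟩
  have hρz : pm ρ ≫ zB = gp hF := by
    apply Over.OverMorphism.ext
    rw [Over.comp_left, pm_left]
    exact hρ0
  have hρ : Function.Injective ρ := germ_injective_of_isIntegral H.left (genericPoint H.left) hη
  have hft : Algebra.FiniteType k Γ(H.left, V) := by
    have h1 : LocallyOfFiniteType (hV.fromSpec ≫ H.hom) := inferInstance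
    rw [hb0] at h1
    exact (HasRingHomProperty.Spec_iff (P := @LocallyOfFiniteType)).1 h1
  have hcomp : CompactSpace H.left := QuasiCompact.compactSpace_of_compactSpace H.hom
  let _ : Algebra k R := ((algebraMap k H.left.functionField).codRestrict R.toSubring hR).toAlgebra
  have : IsScalarTower k R H.left.functionField := IsScalarTower.of_algebraMap_eq fun _ => rfl
  obtain ⟨w, hw1, hw2⟩ := exists_w hF zB ε ρ R hε hρz hρ
  refine ⟨w, hw1, fun D hD => ?_⟩
  obtain ⟨c, hc⟩ := hw2 D (fun p => by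
    obtain ⟨U, φ, hp, h⟩ := hD p
    exact ⟨U, φ, hp, fun q hq => (h q hq).2⟩)
  refine ⟨c, fun f hf hw => ?_⟩
  obtain ⟨r, hr⟩ := hc f (fun q => hf.ge q) hw
  rw [← hr]
  exact r.2

end Groth.Agent.Sga7.H741.GaussGV
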