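import Mathlib.Data.Finsupp.PWO
import Mathlib.Data.Finsupp.Order
import Mathlib.Order.WellQuasiOrder
import Mathlib.Order.Antichain
import Mathlib.Order.Minimal
import Mathlib.Data.Rat.Defs
import Mathlib.Algebra.Order.Field.Rat
import Mathlib.Tactic

/-!
# Newton polygon combinatorics

For two sets `SP SQ` of exponents `(i, j)` and a slope `l > 0` we say that `l` is *good* if
`min_{SP} (i + l j) > min_{SQ} (i + l j)`.  We prove the existence of a largest slope which is not good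
and describe what happens there.
-/

set_option autoImplicit false

namespace Groth.Agent.Sga7.H741.Newton

/-- exponents of monomials in two variables -/
abbrev Ex : Type := Fin 2 →₀ ℕ

/-- weight of an exponent for the slope `l` -/
def wt (l : ℚ) (e : Ex) : ℚ := e 0 + l * e 1

/-- `l` is good: the order of `P` at slope `l` is strictly greater than the one of `Q` -/
def Good (SP SQ : Set Ex) (l : ℚ) : Prop := ∀ u ∈ SP, ∃ v ∈ SQ, wt l v < wt l u

lemma wt_mono {l : ℚ} (hl : 0 ≤ l) {u v : Ex} (h : u ≤ v) : wt l u ≤ wt l v := by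
  have h0 : (u 0 : ℚ) ≤ v 0 := by exact_mod_cast h 0
  have h1 : (u 1 : ℚ) ≤ v 1 := by exact_mod_cast h 1
  unfold wt
  nlinarith [mul_le_mul_of_nonneg_left h1 hl]

lemma exists_finset_min (S : Set Ex) : ∃ F : Finset Ex, (∀ v ∈ F, v ∈ S) ∧ ∀ u ∈ S, ∃ v ∈ F, v ≤ u := by
  have hfin : {x | Minimal (· ∈ S) x}.Finite :=
    WellQuasiOrderedLE.finite_of_isAntichain (setOfPred_minimal_antichain _)
  refine ⟨hfin.toFinset, fun v hv => ?_, fun u hu => ?_⟩
  · rw [Set.Finite.mem_toFinset] at hv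
    exact hv.1
  · obtain ⟨m, hm, hmin⟩ := exists_minimal_le_of_wellFoundedLT (· ∈ S) u hu
    exact ⟨m, by rw [Set.Finite.mem_toFinset]; exact hmin, hm⟩

/-- There is a largest slope which is not good. -/
lemma exists_critical {SP SQ : Set Ex} {m : Ex} (hm : m ∈ SQ) (hm1 : m 1 = 0)
    (hP : ∀ u ∈ SP, 1 ≤ u 1) {l₁ : ℚ} (hl₁ : 0 < l₁) (hng : ¬ Good SP SQ l₁) :
    ∃ l : ℚ, l₁ ≤ l ∧ ¬ Good SP SQ l ∧ ∀ l' : ℚ, l < l' → Good SP SQ l' := by
  classical
  obtain ⟨FP, hFP, hFP'⟩ := exists_finset_min SP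
  obtain ⟨FQ, hFQ, hFQ'⟩ := exists_finset_min SQ
  -- `NG u l`: `u` witnesses that `l` is not good
  let NG : Ex → ℚ → Prop := fun u l => ∀ v ∈ FQ, wt l u ≤ wt l v
  have hNG1 : ∀ {l : ℚ}, 0 < l → ∀ u ∈ FP, NG u l → ¬ Good SP SQ l := by
    intro l hl u hu h hg
    obtain ⟨v, hv, hlt⟩ := hg u (hFP u hu)
    obtain ⟨w, hw, hwv⟩ := hFQ' v hv
    have := h w hw
    have := wt_mono hl.le hwv
    linarith
  have hNG2 : ∀ {l : ℚ}, 0 < l → ¬ Good SP SQ l → ∃ u ∈ FP, NG u l := by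
    intro l hl h
    simp only [Good, not_forall, not_exists, not_and, not_lt] at h
    obtain ⟨u, hu, h⟩ := h
    obtain ⟨w, hw, hwu⟩ := hFP' u hu
    exact ⟨w, hw, fun v hv => (wt_mono hl.le hwu).trans (h v (hFQ v hv))⟩
  obtain ⟨m', hm', hm'm⟩ := hFQ' m hm
  have hm'1 : m' 1 = 0 := by
    have := hm'm 1
    omega
  -- the upper end point of the interval of slopes attached to `u`
  have hend : ∀ u ∈ FP, (∃ l, 0 < l ∧ NG u l) → ∃ l, NG u l ∧ ∀ l', NG u l' → l' ≤ l := by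
    intro u hu ⟨l₀, hl₀, h₀⟩
    have hu1 : 1 ≤ u 1 := hP u (hFP u hu)
    let FQ' := FQ.filter (fun v => v 1 < u 1)
    have hne : FQ'.Nonempty := ⟨m', by simp only [FQ', Finset.mem_filter]; exact ⟨hm', by omega⟩⟩
    obtain ⟨v₀, hv₀, hmin⟩ := Finset.exists_min_image FQ'
      (fun v => ((v 0 : ℚ) - u 0) / ((u 1 : ℚ) - v 1)) hne
    refine ⟨((v₀ 0 : ℚ) - u 0) / ((u 1 : ℚ) - v₀ 1), ?_, ?_⟩
    · intro v hv
      have hkey : ∀ l', NG u l' → l' ≤ ((v₀ 0 : ℚ) - u 0) / ((u 1 : ℚ) - v₀ 1) := by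
        intro l' hl'
        simp only [FQ', Finset.mem_filter] at hv₀
        have h1 : (0 : ℚ) < (u 1 : ℚ) - v₀ 1 := by
          have : (v₀ 1 : ℚ) < u 1 := by exact_mod_cast hv₀.2
          linarith
        rw [le_div_iff₀ h1]
        have := hl' v₀ hv₀.1
        simp only [wt] at this
        linarith
      rcases lt_trichotomy (v 1) (u 1) with h | h | h
      · have hv' : v ∈ FQ' := by simp only [FQ', Finset.mem_filter]; exact ⟨hv, h⟩
        have h1 : (0 : ℚ) < (u 1 : ℚ) - v 1 := by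
          have : (v 1 : ℚ) < u 1 := by exact_mod_cast h
          linarith
        have := hmin v hv'
        rw [le_div_iff₀ h1] at this
        simp only [wt]
        linarith
      · have := h₀ v hv
        simp only [wt, h] at this ⊢
        linarith
      · have h1 := h₀ v hv
        have h2 := hkey l₀ h₀
        have h3 : (0 : ℚ) < (v 1 : ℚ) - u 1 := by
          have : (u 1 : ℚ) < v 1 := by exact_mod_cast h
          linarith
        simp only [wt] at h1 ⊢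
        nlinarith [mul_le_mul_of_nonneg_right h2 h3.le]
    · intro l' hl'
      simp only [FQ', Finset.mem_filter] at hv₀
      have h1 : (0 : ℚ) < (u 1 : ℚ) - v₀ 1 := by
        have : (v₀ 1 : ℚ) < u 1 := by exact_mod_cast hv₀.2
        linarith
      rw [le_div_iff₀ h1]
      have := hl' v₀ hv₀.1
      simp only [wt] at this
      linarith
  choose! e he1 he2 using hend
  let FP' := FP.filter (fun u => ∃ l, 0 < l ∧ NG u l)
  obtain ⟨u₁, hu₁, hN₁⟩ := hNG2 hl₁ hng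
  have hne : FP'.Nonempty :=
    ⟨u₁, by simp only [FP', Finset.mem_filter]; exact ⟨hu₁, l₁, hl₁, hN₁⟩⟩
  obtain ⟨u₀, hu₀, hmax⟩ := Finset.exists_max_image FP' e hne
  have hu₀' : u₀ ∈ FP ∧ ∃ l, 0 < l ∧ NG u₀ l := by
    simpa only [FP', Finset.mem_filter] using hu₀
  have hmax' : ∀ u ∈ FP, ∀ l, 0 < l → NG u l → l ≤ e u₀ := by
    intro u hu l hl h
    have h1 : u ∈ FP' := by simp only [FP', Finset.mem_filter]; exact ⟨hu, l, hl, h⟩
    exact (he2 u hu ⟨l, hl, h⟩ l h).trans (hmax u h1)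
  have hle : l₁ ≤ e u₀ := hmax' u₁ hu₁ l₁ hl₁ hN₁
  refine ⟨e u₀, hle, hNG1 (hl₁.trans_le hle) u₀ hu₀'.1 (he1 u₀ hu₀'.1 hu₀'.2), ?_⟩
  intro l' hl'
  by_contra hcon
  obtain ⟨u, hu, h⟩ := hNG2 (hl₁.trans (hle.trans_lt hl')) hcon
  exact absurd (hmax' u hu l' (hl₁.trans (hle.trans_lt hl')) h) (not_le.mpr hl')

/-- If all positive slopes are good then `ord_x P ≥ ord_x Q`. -/
lemma exists_le_of_forall_good {SP SQ : Set Ex} (h : ∀ l : ℚ, 0 < l → Good SP SQ l) {u : Ex}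
    (hu : u ∈ SP) : ∃ v ∈ SQ, v 0 ≤ u 0 := by
  have h1 : (0 : ℚ) < (u 1 : ℚ) + 1 := by positivity
  obtain ⟨v, hv, hlt⟩ := h (1 / ((u 1 : ℚ) + 1)) (by positivity) u hu
  refine ⟨v, hv, ?_⟩
  simp only [wt] at hlt
  have h2 : 1 / ((u 1 : ℚ) + 1) * (u 1 : ℚ) < 1 := by
    rw [one_div, inv_mul_lt_iff₀ h1]
    linarith
  have h3 : 0 ≤ 1 / ((u 1 : ℚ) + 1) * (v 1 : ℚ) := by positivity
  have h4 : (v 0 : ℚ) < u 0 + 1 := by linarith
  have : v 0 < u 0 + 1 := by exact_mod_cast h4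
  omega

/-- integral weights: `q i + p j` -/
def iwt (q p : ℕ) (e : Ex) : ℕ := q * e 0 + p * e 1

lemma iwt_eq (q p : ℕ) (hq : 0 < q) (e : Ex) : (iwt q p e : ℚ) = q * wt (p / q) e := by
  have : (q : ℚ) ≠ 0 := by positivity
  simp only [iwt, wt]
  push_cast
  field_simp

lemma iwt_lt_iff (q p : ℕ) (hq : 0 < q) (u v : Ex) :
    iwt q p u < iwt q p v ↔ wt ((p : ℚ) / q) u < wt ((p : ℚ) / q) v := by
  have h : (0 : ℚ) < q := by exact_mod_cast hq
  rw [← Nat.cast_lt (α := ℚ), iwt_eq q p hq, iwt_eq q p hq]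
  exact mul_lt_mul_iff_right₀ h

lemma iwt_le_iff (q p : ℕ) (hq : 0 < q) (u v : Ex) :
    iwt q p u ≤ iwt q p v ↔ wt ((p : ℚ) / q) u ≤ wt ((p : ℚ) / q) v := by
  rw [← not_lt, ← not_lt, iwt_lt_iff q p hq]

/-- If all slopes greater than `p / q` are good, and `u ∈ SP`, then there is `v ∈ SQ` with
`iwt v ≤ iwt u`; moreover if `iwt` of `u` is minimal among elements of `SQ`, then
there is `v ∈ SQ` of the same weight with `v 1 < u 1`. -/
lemma exists_of_critical {SP SQ : Set Ex} {q p : ℕ} (hq : 0 < q)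
    (h : ∀ l' : ℚ, (p : ℚ) / q < l' → Good SP SQ l') {u : Ex} (hu : u ∈ SP) :
    ∃ v ∈ SQ, iwt q p v < iwt q p u ∨ (iwt q p v = iwt q p u ∧ v 1 < u 1) := by
  by_contra hcon
  push Not at hcon
  have hq' : (0 : ℚ) < q := by exact_mod_cast hq
  -- choose a slope slightly bigger
  set ε : ℚ := 1 / (q * ((u 1 : ℚ) + 1)) with hε
  have hu1 : (0 : ℚ) < (u 1 : ℚ) + 1 := by positivity
  have hεpos : 0 < ε := by positivity
  obtain ⟨v, hv, hlt⟩ := h ((p : ℚ) / q + ε) (by linarith) u hu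
  obtain ⟨h1, h2⟩ := hcon v hv
  have e1 := iwt_eq q p hq u
  have e2 := iwt_eq q p hq v
  simp only [wt] at hlt e1 e2
  have h3 : q * ((v 0 : ℚ) + ((p : ℚ) / q + ε) * v 1) < q * ((u 0 : ℚ) + ((p : ℚ) / q + ε) * u 1) :=
    mul_lt_mul_of_pos_left hlt hq'
  have h4 : (iwt q p v : ℚ) + q * ε * v 1 < iwt q p u + q * ε * u 1 := by
    rw [e1, e2]; nlinarith
  have h5 : q * ε = 1 / ((u 1 : ℚ) + 1) := by
    rw [hε]; field_simp
  rw [h5] at h4
  rcases h1.lt_or_eq with h1 | h1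
  · have h6 : (iwt q p u : ℚ) + 1 ≤ iwt q p v := by exact_mod_cast h1
    have h7 : 1 / ((u 1 : ℚ) + 1) * (u 1 : ℚ) < 1 := by
      rw [one_div, inv_mul_lt_iff₀ hu1]
      linarith
    have h8 : 0 ≤ 1 / ((u 1 : ℚ) + 1) * (v 1 : ℚ) := by positivity
    linarith
  · have h6 : (u 1 : ℚ) ≤ v 1 := by exact_mod_cast h2 h1.symm
    have h7 : 1 / ((u 1 : ℚ) + 1) * (u 1 : ℚ) ≤ 1 / ((u 1 : ℚ) + 1) * (v 1 : ℚ) :=
      mul_le_mul_of_nonneg_left h6 (by positivity)
    have h8 : (iwt q p u : ℚ) = iwt q p v := by exact_mod_cast h1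
    linarith

end Groth.Agent.Sga7.H741.Newton
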