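import Mathlib.RingTheory.MvPowerSeries.Substitution
import Mathlib.RingTheory.PowerSeries.Substitution
import Mathlib.RingTheory.MvPowerSeries.NoZeroDivisors
import Mathlib.RingTheory.PowerSeries.NoZeroDivisors
import Mathlib.RingTheory.AlgebraicIndependent.Basic
import Groth.Agent.Sga7.H741.Newton

/-!
# Evaluation of power series in two variables along monomial arcs
-/

set_option autoImplicit false

universe u

open PowerSeries

namespace Groth.Agent.Sga7.H741.Eval

open Groth.Agent.Sga7.H741.Newton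

section defs

variable {k : Type u} [Field k] {K : Type u} [Field K] [Algebra k K]

lemma hasSubst_pair {s d : K⟦X⟧} (hs : constantCoeff s = 0) (hd : constantCoeff d = 0) :
    MvPowerSeries.HasSubst (S := K) (τ := Unit) (![s, d] : Fin 2 → MvPowerSeries Unit K) := by
  apply MvPowerSeries.hasSubst_of_constantCoeff_zero
  intro i
  fin_cases i
  · exact hs
  · exact hd

variable (k) in
/-- Evaluation of power series in two variables at a pair of power series without constant term. -/
noncomputable def ev (s d : K⟦X⟧) (hs : constantCoeff s = 0) (hd : constantCoeff d = 0) :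
    MvPowerSeries (Fin 2) k →ₐ[k] K⟦X⟧ :=
  MvPowerSeries.substAlgHom (R := k) (hasSubst_pair hs hd)

variable (k) in
/-- Evaluation of power series in one variable at a power series without constant term. -/
noncomputable def ev1 (s : K⟦X⟧) (hs : constantCoeff s = 0) : k⟦X⟧ →ₐ[k] K⟦X⟧ :=
  PowerSeries.substAlgHom (R := k) (PowerSeries.HasSubst.of_constantCoeff_zero' hs)

variable (k) in
/-- `f(t) ↦ f(x)` -/
noncomputable def phi1 : k⟦X⟧ →ₐ[k] MvPowerSeries (Fin 2) k :=
  PowerSeries.substAlgHom (R := k) (a := MvPowerSeries.X 0)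
    (PowerSeries.HasSubst.of_constantCoeff_zero (by simp))

variable (k) in
/-- `f(t) ↦ f(x + y)` -/
noncomputable def phi2 : k⟦X⟧ →ₐ[k] MvPowerSeries (Fin 2) k :=
  PowerSeries.substAlgHom (R := k) (a := MvPowerSeries.X 0 + MvPowerSeries.X 1)
    (PowerSeries.HasSubst.of_constantCoeff_zero (by simp))

lemma ev_X0 (s d : K⟦X⟧) (hs : constantCoeff s = 0) (hd : constantCoeff d = 0) :
    ev k s d hs hd (MvPowerSeries.X 0) = s :=
  MvPowerSeries.substAlgHom_X (R := k) (hasSubst_pair hs hd) 0

lemma ev_X1 (s d : K⟦X⟧) (hs : constantCoeff s = 0) (hd : constantCoeff d = 0) :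
    ev k s d hs hd (MvPowerSeries.X 1) = d :=
  MvPowerSeries.substAlgHom_X (R := k) (hasSubst_pair hs hd) 1

lemma phi1_X : phi1 k X = MvPowerSeries.X 0 :=
  PowerSeries.substAlgHom_X (R := k) _

lemma phi2_X : phi2 k X = MvPowerSeries.X 0 + MvPowerSeries.X 1 :=
  PowerSeries.substAlgHom_X (R := k) _

lemma ev1_X (s : K⟦X⟧) (hs : constantCoeff s = 0) : ev1 k s hs X = s :=
  PowerSeries.substAlgHom_X (R := k) _

lemma ev_comp_phi1 (s d : K⟦X⟧) (hs : constantCoeff s = 0) (hd : constantCoeff d = 0) :
    (ev k s d hs hd).comp (phi1 k) = ev1 k s hs := by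
  ext1 f
  have h0 : PowerSeries.HasSubst (MvPowerSeries.X 0 : MvPowerSeries (Fin 2) k) :=
    PowerSeries.HasSubst.of_constantCoeff_zero (by simp)
  have h := MvPowerSeries.substAlgHom_comp_substAlgHom_apply (R := k) h0.const
    (hasSubst_pair hs hd) f
  refine h.trans ?_
  rw [MvPowerSeries.substAlgHom_apply]
  change _ = PowerSeries.substAlgHom _ f
  rw [PowerSeries.coe_substAlgHom, PowerSeries.subst_def]
  congr 1
  funext i
  exact ev_X0 s d hs hd

lemma ev_comp_phi2 (s d : K⟦X⟧) (hs : constantCoeff s = 0) (hd : constantCoeff d = 0)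
    (hsd : constantCoeff (s + d) = 0) :
    (ev k s d hs hd).comp (phi2 k) = ev1 k (s + d) hsd := by
  ext1 f
  have h0 : PowerSeries.HasSubst
      (MvPowerSeries.X 0 + MvPowerSeries.X 1 : MvPowerSeries (Fin 2) k) :=
    PowerSeries.HasSubst.of_constantCoeff_zero (by simp)
  have h := MvPowerSeries.substAlgHom_comp_substAlgHom_apply (R := k) h0.const
    (hasSubst_pair hs hd) f
  refine h.trans ?_
  rw [MvPowerSeries.substAlgHom_apply]
  change _ = PowerSeries.substAlgHom _ f
  rw [PowerSeries.coe_substAlgHom, PowerSeries.subst_def]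
  congr 1
  funext i
  change ev k s d hs hd (MvPowerSeries.X 0 + MvPowerSeries.X 1) = _
  rw [map_add, ev_X0, ev_X1]

/-- The exponents occurring in a power series. -/
def supp (P : MvPowerSeries (Fin 2) k) : Set Ex := {e | MvPowerSeries.coeff e P ≠ 0}

/-- The exponents of weight `n`. -/
noncomputable def wset (q p n : ℕ) : Finset Ex :=
  open Classical in
  ((Finset.range (n + 1) ×ˢ Finset.range (n + 1)).image
    (fun ij : ℕ × ℕ => Finsupp.single 0 ij.1 + Finsupp.single 1 ij.2)).filter (fun e => iwt q p e = n)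

lemma mem_wset {q p n : ℕ} (hq : 0 < q) (hp : 0 < p) (e : Ex) : e ∈ wset q p n ↔ iwt q p e = n := by
  classical
  simp only [wset, Finset.mem_filter, Finset.mem_image, Finset.mem_product, Finset.mem_range,
    and_iff_right_iff_imp]
  intro h
  have h0 : e 0 ≤ q * e 0 := Nat.le_mul_of_pos_left _ hq
  have h1 : e 1 ≤ p * e 1 := Nat.le_mul_of_pos_left _ hp
  simp only [iwt] at h
  refine ⟨(e 0, e 1), ⟨by dsimp only; omega, by dsimp only; omega⟩, ?_⟩
  ext i
  fin_cases i <;> simp

/-- The part of weight `n` evaluated at `(a, b)`. -/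
noncomputable def lead (P : MvPowerSeries (Fin 2) k) (q p n : ℕ) (a b : K) : K :=
  ∑ e ∈ wset q p n, algebraMap k K (MvPowerSeries.coeff e P) * (a ^ (e 0) * b ^ (e 1))

/-- Leading coefficients along a monomial arc. -/
lemma exists_lead {q p : ℕ} (hq : 0 < q) (hp : 0 < p) (s' d' : K⟦X⟧)
    (hs : constantCoeff (X ^ q * s') = 0) (hd : constantCoeff (X ^ p * d') = 0)
    (P : MvPowerSeries (Fin 2) k) (n : ℕ) (hP : ∀ e ∈ supp P, n ≤ iwt q p e) :
    ∃ r : K⟦X⟧, ev k (X ^ q * s') (X ^ p * d') hs hd P = X ^ n * r ∧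
      constantCoeff r = lead P q p n (constantCoeff s') (constantCoeff d') := by
  classical
  have hprod : ∀ e : Ex, (e.prod fun i m => (![X ^ q * s', X ^ p * d'] i : K⟦X⟧) ^ m) =
      X ^ (iwt q p e) * (s' ^ (e 0) * d' ^ (e 1)) := by
    intro e
    rw [Finsupp.prod_fintype _ _ (by intro i; simp)]
    simp only [Fin.prod_univ_two, Matrix.cons_val_zero, Matrix.cons_val_one, iwt]
    rw [mul_pow, mul_pow, pow_add, pow_mul, pow_mul]
    ring
  have hcoeff : ∀ m : ℕ, coeff m (ev k (X ^ q * s') (X ^ p * d') hs hd P) =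
      finsum (fun e : Ex => (MvPowerSeries.coeff e P) •
        (coeff m (X ^ (iwt q p e) * (s' ^ (e 0) * d' ^ (e 1))))) := by
    intro m
    have := MvPowerSeries.coeff_subst (R := k) (hasSubst_pair hs hd) P (Finsupp.single () m)
    change MvPowerSeries.coeff (Finsupp.single () m)
      (MvPowerSeries.substAlgHom (R := k) (hasSubst_pair hs hd) P) = _
    rw [MvPowerSeries.substAlgHom_apply, this]
    congr 1
    funext e
    congr 1
    rw [← hprod e]
    rfl
  have hdvd : X ^ n ∣ ev k (X ^ q * s') (X ^ p * d') hs hd P := by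
    rw [PowerSeries.X_pow_dvd_iff]
    intro m hm
    rw [hcoeff m]
    apply finsum_eq_zero_of_forall_eq_zero
    intro e
    by_cases he : e ∈ supp P
    · have := hP e he
      rw [PowerSeries.coeff_X_pow_mul', if_neg (by omega), smul_zero]
    · have : MvPowerSeries.coeff e P = 0 := by
        by_contra h; exact he h
      rw [this, zero_smul]
  obtain ⟨r, hr⟩ := hdvd
  refine ⟨r, hr, ?_⟩
  have h1 : constantCoeff r = coeff n (ev k (X ^ q * s') (X ^ p * d') hs hd P) := by
    rw [hr, PowerSeries.coeff_X_pow_mul', if_pos le_rfl, Nat.sub_self, coeff_zero_eq_constantCoeff_apply]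
  rw [h1, hcoeff n, finsum_eq_sum_of_support_subset (s := wset q p n)]
  · apply Finset.sum_congr rfl
    intro e he
    rw [mem_wset hq hp] at he
    rw [PowerSeries.coeff_X_pow_mul', if_pos he.le, he, Nat.sub_self,
      coeff_zero_eq_constantCoeff_apply, map_mul, map_pow, map_pow, Algebra.smul_def]
  · intro e he
    rw [Finset.mem_coe, mem_wset hq hp]
    by_contra hne
    apply he
    dsimp only
    by_cases he' : e ∈ supp P
    · have := hP e he'
      rw [PowerSeries.coeff_X_pow_mul', if_neg (by omega), smul_zero]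
    · have : MvPowerSeries.coeff e P = 0 := by
        by_contra h; exact he' h
      rw [this, zero_smul]

end defs

section lead

variable {k : Type u} [Field k] {K : Type u} [Field K] [Algebra k K]

lemma lead_map {L : Type u} [Field L] [Algebra k L] (φ : K →ₐ[k] L) (P : MvPowerSeries (Fin 2) k)
    (q p n : ℕ) (a b : K) : φ (lead P q p n a b) = lead P q p n (φ a) (φ b) := by
  simp only [lead, map_sum, map_mul, map_pow, AlgHom.commutes]

/-- The part of weight `n`, as a polynomial in two variables. -/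
noncomputable def leadMv (P : MvPowerSeries (Fin 2) k) (q p n : ℕ) : MvPolynomial (Fin 2) k :=
  ∑ e ∈ wset q p n, MvPolynomial.monomial e (MvPowerSeries.coeff e P)

lemma aeval_leadMv (P : MvPowerSeries (Fin 2) k) (q p n : ℕ) (a b : K) :
    MvPolynomial.aeval ![a, b] (leadMv P q p n) = lead P q p n a b := by
  simp only [leadMv, lead, map_sum, MvPolynomial.aeval_monomial]
  refine Finset.sum_congr rfl fun e _ => ?_
  rw [Finsupp.prod_fintype _ _ (by intro i; simp)]
  simp [Fin.prod_univ_two]

lemma coeff_leadMv {q p : ℕ} (hq : 0 < q) (hp : 0 < p) (P : MvPowerSeries (Fin 2) k) (n : ℕ)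
    (e : Ex) (he : iwt q p e = n) :
    MvPolynomial.coeff e (leadMv P q p n) = MvPowerSeries.coeff e P := by
  classical
  rw [leadMv, MvPolynomial.coeff_sum]
  simp only [MvPolynomial.coeff_monomial]
  rw [Finset.sum_ite_eq', if_pos]
  rw [mem_wset hq hp, he]

lemma lead_ne_zero_of_algebraicIndependent {q p : ℕ} (hq : 0 < q) (hp : 0 < p)
    (P : MvPowerSeries (Fin 2) k) (n : ℕ) {e : Ex} (he : iwt q p e = n) (heP : e ∈ supp P)
    {a b : K} (hab : AlgebraicIndependent k ![a, b]) : lead P q p n a b ≠ 0 := by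
  rw [← aeval_leadMv]
  intro h
  have h1 : leadMv P q p n = 0 := hab (by rw [h, map_zero])
  apply heP
  rw [← coeff_leadMv hq hp P n e he, h1, MvPolynomial.coeff_zero]

/-- The part of weight `n` evaluated at `(1, X)`. -/
noncomputable def leadPoly (P : MvPowerSeries (Fin 2) k) (q p n : ℕ) : Polynomial k :=
  ∑ e ∈ wset q p n, Polynomial.monomial (e 1) (MvPowerSeries.coeff e P)

lemma aeval_leadPoly (P : MvPowerSeries (Fin 2) k) (q p n : ℕ) (b : K) :
    Polynomial.aeval b (leadPoly P q p n) = lead P q p n 1 b := by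
  simp only [leadPoly, lead, map_sum, Polynomial.aeval_monomial, one_pow, one_mul]

lemma coeff_leadPoly {q p : ℕ} (hq : 0 < q) (hp : 0 < p) (P : MvPowerSeries (Fin 2) k) (n : ℕ)
    (e : Ex) (he : iwt q p e = n) :
    (leadPoly P q p n).coeff (e 1) = MvPowerSeries.coeff e P := by
  classical
  rw [leadPoly, Polynomial.finsetSum_coeff, Finset.sum_eq_single e]
  · rw [Polynomial.coeff_monomial, if_pos rfl]
  · intro e' he' hne
    rw [Polynomial.coeff_monomial, if_neg]
    intro h
    apply hne
    rw [mem_wset hq hp] at he'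
    have h2 : q * e' 0 + p * e' 1 = q * e 0 + p * e 1 := by
      have h3 := he'.trans he.symm
      simpa only [iwt] using h3
    rw [h] at h2
    have h4 : q * e' 0 = q * e 0 := by omega
    have h5 : e' 0 = e 0 := Nat.eq_of_mul_eq_mul_left hq h4
    ext i
    fin_cases i
    · exact h5
    · exact h
  · intro h
    exact absurd ((mem_wset hq hp e).2 he) h

lemma coeff_leadPoly_eq_zero {q p : ℕ} (hq : 0 < q) (hp : 0 < p) (P : MvPowerSeries (Fin 2) k)
    (n j : ℕ) (h : ∀ e ∈ supp P, iwt q p e = n → e 1 ≠ j) : (leadPoly P q p n).coeff j = 0 := by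
  classical
  rw [leadPoly, Polynomial.finsetSum_coeff]
  refine Finset.sum_eq_zero fun e he => ?_
  rw [mem_wset hq hp] at he
  rw [Polynomial.coeff_monomial]
  split_ifs with h1
  · by_contra h2
    exact h e h2 he h1
  · rfl

lemma lead_one_ne_zero {q p : ℕ} (hq : 0 < q) (hp : 0 < p)
    (P : MvPowerSeries (Fin 2) k) (n : ℕ) {e : Ex} (he : iwt q p e = n) (heP : e ∈ supp P)
    {b : K} (hb : Transcendental k b) : lead P q p n 1 b ≠ 0 := by
  rw [← aeval_leadPoly]
  intro h
  have h1 : leadPoly P q p n = 0 := by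
    by_contra h2
    exact hb ⟨_, h2, h⟩
  apply heP
  rw [← coeff_leadPoly hq hp P n e he, h1, Polynomial.coeff_zero]

lemma lead_mul_pow {q p : ℕ} (hq : 0 < q) (hp : 0 < p) (P : MvPowerSeries (Fin 2) k) (n : ℕ)
    (a b c : K) : lead P q p n (c ^ q * a) (c ^ p * b) = c ^ n * lead P q p n a b := by
  simp only [lead, Finset.mul_sum]
  refine Finset.sum_congr rfl fun e he => ?_
  rw [mem_wset hq hp] at he
  rw [mul_pow, mul_pow, ← he, iwt, pow_add, ← pow_mul, ← pow_mul]
  ring

end lead

end Groth.Agent.Sga7.H741.Eval
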