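import Groth.Agent.Sga7.H741.Chart
import Groth.Agent.Sga7.H741.Eval
import Mathlib.RingTheory.Localization.FractionRing

/-!
# The difference of two translates of an arc, in coordinates
-/

set_option autoImplicit false

universe u

open CategoryTheory AlgebraicGeometry Limits MonObj PowerSeries

namespace Groth.Agent.Sga7.H741.Arc

open Groth.Agent.Models.WeilPts Groth.Agent.Sga7.H741.Newton Groth.Agent.Sga7.H741.Eval
  Groth.Agent.Sga7.H741.Chart

section ext

variable {k : Type u} [Field k] {F : Type u} [Field F] [Algebra k F] [Algebra k⟦X⟧ F]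
  [IsScalarTower k k⟦X⟧ F] [IsFractionRing k⟦X⟧ F]

lemma isUnit_of_isUnit_X {C : Type u} [CommRing C] [Algebra k C] (g : k⟦X⟧ →ₐ[k] C)
    (hg : IsUnit (g X)) (y : nonZeroDivisors k⟦X⟧) : IsUnit (g y) := by
  obtain ⟨y, hy⟩ := y
  have hy0 : y ≠ 0 := nonZeroDivisors.ne_zero hy
  obtain ⟨n, hn⟩ := IsDiscreteValuationRing.associated_pow_irreducible hy0
    (PowerSeries.X_prime (R := k)).irreducible
  have h1 : IsUnit (g (X ^ n)) := by rw [map_pow]; exact hg.pow n
  exact (hn.symm.map g).isUnit h1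

variable (F) in
/-- Extension of a homomorphism of `k`-algebras from `k[[t]]` to `k((t))`. -/
noncomputable def extF {C : Type u} [CommRing C] [Algebra k C] (g : k⟦X⟧ →ₐ[k] C)
    (hg : IsUnit (g X)) : F →ₐ[k] C :=
  IsLocalization.liftAlgHom (M := nonZeroDivisors k⟦X⟧) (f := g) (isUnit_of_isUnit_X g hg)

lemma extF_comp {C : Type u} [CommRing C] [Algebra k C] (g : k⟦X⟧ →ₐ[k] C)
    (hg : IsUnit (g X)) : (extF F g hg).comp (IsScalarTower.toAlgHom k k⟦X⟧ F) = g := by
  ext1 y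
  exact IsLocalization.lift_eq _ y

lemma extF_unique {C : Type u} [CommRing C] [Algebra k C] {h h' : F →ₐ[k] C}
    (hh : h.comp (IsScalarTower.toAlgHom k k⟦X⟧ F) = h'.comp (IsScalarTower.toAlgHom k k⟦X⟧ F)) :
    h = h' := by
  have h1 : h.toRingHom = h'.toRingHom := by
    apply IsLocalization.ringHom_ext (nonZeroDivisors k⟦X⟧)
    ext1 y
    exact DFunLike.congr_fun hh y
  ext1 y
  exact DFunLike.congr_fun h1 y

end ext

section unitpoint

variable {k : Type u} [Field k] {G : Over (Spec (CommRingCat.of k))} [GrpObj G]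

lemma specMap_unit (c : UnitChart G) {C : Type u} [CommRing C] [Algebra k C] :
    specMap ((Algebra.ofId k C).comp c.eps) ≫ c.j = 1 := by
  rw [← specMap_comp, Category.assoc, c.unit, MonObj.comp_one]

end unitpoint

section evX0

variable {k : Type u} [Field k]

/-- restriction to `y = 0` -/
noncomputable def ev0 : MvPowerSeries (Fin 2) k →ₐ[k] k⟦X⟧ :=
  ev k (K := k) X 0 constantCoeff_X (map_zero _)

lemma coeff_ev0 (P : MvPowerSeries (Fin 2) k) (m : ℕ) :
    coeff m (ev0 P) = MvPowerSeries.coeff (Finsupp.single 0 m) P := by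
  classical
  have hs : constantCoeff (X : k⟦X⟧) = 0 := by simp
  have hd : constantCoeff (0 : k⟦X⟧) = 0 := by simp
  have := MvPowerSeries.coeff_subst (R := k) (hasSubst_pair hs hd) P (Finsupp.single () m)
  change MvPowerSeries.coeff (Finsupp.single () m)
      (MvPowerSeries.substAlgHom (R := k) (hasSubst_pair hs hd) P) = _
  rw [MvPowerSeries.substAlgHom_apply, this]
  have hprod : ∀ e : Ex, (e.prod fun i m => (![X, 0] i : k⟦X⟧) ^ m) =
      X ^ (e 0) * 0 ^ (e 1) := by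
    intro e
    rw [Finsupp.prod_fintype _ _ (by intro i; simp)]
    simp only [Fin.prod_univ_two, Matrix.cons_val_zero, Matrix.cons_val_one]
  rw [finsum_eq_single _ (Finsupp.single 0 m)]
  · rw [show MvPowerSeries.coeff (Finsupp.single () m) ((Finsupp.single (0 : Fin 2) m).prod
      fun i m => (![X, 0] i : MvPowerSeries Unit k) ^ m) = coeff m ((Finsupp.single (0 : Fin 2) m).prod
      fun i m => (![X, 0] i : k⟦X⟧) ^ m) from rfl, hprod]
    simp
  · intro e he
    rw [show MvPowerSeries.coeff (Finsupp.single () m) (e.prod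
      fun i m => (![X, 0] i : MvPowerSeries Unit k) ^ m) = coeff m (e.prod
      fun i m => (![X, 0] i : k⟦X⟧) ^ m) from rfl, hprod]
    by_cases h1 : e 1 = 0
    · have h0 : e 0 ≠ m := by
        intro h0
        apply he
        ext i
        fin_cases i
        · simpa using h0
        · simpa using h1
      rw [h1, pow_zero, _root_.mul_one, PowerSeries.coeff_X_pow, if_neg (Ne.symm h0), smul_zero]
    · rw [zero_pow h1, mul_zero, map_zero, smul_zero]

lemma one_le_of_ev0_eq_zero {P : MvPowerSeries (Fin 2) k} (h : ev0 P = 0) {e : Ex}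
    (he : e ∈ supp P) : 1 ≤ e 1 := by
  by_contra hcon
  apply he
  have h1 : e = Finsupp.single 0 (e 0) := by
    ext i
    fin_cases i
    · simp
    · simp; omega
  rw [h1, ← coeff_ev0, h, map_zero]

lemma exists_of_ev0_ne_zero {P : MvPowerSeries (Fin 2) k} (h : ev0 P ≠ 0) :
    ∃ e ∈ supp P, e 1 = 0 := by
  by_contra hcon
  push Not at hcon
  apply h
  ext m
  rw [coeff_ev0, map_zero]
  by_contra h1
  exact hcon (Finsupp.single 0 m) h1 (by simp)

end evX0

section main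

variable {k : Type u} [Field k] {F : Type u} [Field F] [Algebra k F] [Algebra k⟦X⟧ F]
  [IsScalarTower k k⟦X⟧ F] [IsFractionRing k⟦X⟧ F]
  {G : Over (Spec (CommRingCat.of k))} [GrpObj G] (c : UnitChart G)

/-- The function `f(x+y) f(x)⁻¹` in coordinates. -/
theorem exists_coords (f : SpecO k F ⟶ G) :
    ∃ (P : Fin c.r → MvPowerSeries (Fin 2) k) (Q : MvPowerSeries (Fin 2) k),
      (∀ i, ∀ e ∈ supp (P i), 1 ≤ e 1) ∧ (∃ m ∈ supp Q, m 1 = 0) ∧
      ∀ (L : Type u) [Field L] [Algebra k L] (θ : MvPowerSeries (Fin 2) k →ₐ[k] L), θ Q ≠ 0 →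
        ∃ θ₁ θ₂ : F →ₐ[k] L,
          θ₁.comp (IsScalarTower.toAlgHom k k⟦X⟧ F) = θ.comp (phi1 k) ∧
          θ₂.comp (IsScalarTower.toAlgHom k k⟦X⟧ F) = θ.comp (phi2 k) ∧
          ∃ ρ : c.B →ₐ[k] L, (∀ i, θ Q * ρ (c.x i) = θ (P i)) ∧
            specMap ρ ≫ c.j = (specMap θ₂ ≫ f) * (specMap θ₁ ≫ f)⁻¹ := by
  classical
  let A := MvPowerSeries (Fin 2) k
  let xy : A := MvPowerSeries.X 0 * (MvPowerSeries.X 0 + MvPowerSeries.X 1)
  let E := Localization.Away xy
  let iE : A →ₐ[k] E := IsScalarTower.toAlgHom k A E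
  have hxy : IsUnit (iE xy) := IsLocalization.Away.algebraMap_isUnit xy
  have hx : IsUnit (iE (MvPowerSeries.X 0)) := by
    rw [map_mul] at hxy; exact isUnit_of_mul_isUnit_left hxy
  have hx' : IsUnit (iE (MvPowerSeries.X 0 + MvPowerSeries.X 1)) := by
    rw [map_mul] at hxy; exact isUnit_of_mul_isUnit_right hxy
  let f₁ : F →ₐ[k] E := extF F (iE.comp (phi1 k)) (by
    rw [AlgHom.comp_apply, phi1_X]; exact hx)
  let f₂ : F →ₐ[k] E := extF F (iE.comp (phi2 k)) (by
    rw [AlgHom.comp_apply, phi2_X]; exact hx')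
  have hf₁ : f₁.comp (IsScalarTower.toAlgHom k k⟦X⟧ F) = iE.comp (phi1 k) := extF_comp _ _
  have hf₂ : f₂.comp (IsScalarTower.toAlgHom k k⟦X⟧ F) = iE.comp (phi2 k) := extF_comp _ _
  let Φ : SpecO k E ⟶ G := (specMap f₂ ≫ f) * (specMap f₁ ≫ f)⁻¹
  -- the point `y = 0`
  let iF : k⟦X⟧ →ₐ[k] F := IsScalarTower.toAlgHom k k⟦X⟧ F
  have hiF : Function.Injective iF := IsFractionRing.injective k⟦X⟧ F
  let δA : A →ₐ[k] F := iF.comp ev0
  have hδx : ev0 (MvPowerSeries.X 0 : A) = (X : k⟦X⟧) := ev_X0 _ _ _ _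
  have hδy : ev0 (MvPowerSeries.X 1 : A) = (0 : k⟦X⟧) := ev_X1 _ _ _ _
  have hδxy : δA xy ≠ 0 := by
    intro h
    have h1 : ev0 xy = 0 := hiF (by rw [map_zero]; exact h)
    rw [map_mul, map_add, hδx, hδy, add_zero] at h1
    have := PowerSeries.X_ne_zero (R := k)
    exact (mul_ne_zero this this) h1
  let δ : E →ₐ[k] F := IsLocalization.liftAlgHom (M := Submonoid.powers xy) (f := δA) (by
    rintro ⟨_, n, rfl⟩
    rw [map_pow]
    exact (IsUnit.mk0 _ hδxy).pow n)
  have hδ : δ.comp iE = δA := by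
    ext1 a
    exact IsLocalization.lift_eq _ a
  have hev : ev0.comp (phi1 k) = ev0.comp (phi2 k) := by
    have h2 : constantCoeff (X + 0 : k⟦X⟧) = 0 := by rw [add_zero]; exact constantCoeff_X
    refine (ev_comp_phi1 (k := k) (X : k⟦X⟧) 0 constantCoeff_X (map_zero _)).trans ?_
    refine Eq.trans ?_ (ev_comp_phi2 (k := k) (X : k⟦X⟧) 0 constantCoeff_X (map_zero _) h2).symm
    congr 1
    rw [add_zero]
  have hδf : δ.comp f₁ = δ.comp f₂ := by
    apply extF_unique
    rw [AlgHom.comp_assoc, AlgHom.comp_assoc, hf₁, hf₂, ← AlgHom.comp_assoc, ← AlgHom.comp_assoc, hδ]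
    rw [AlgHom.comp_assoc, AlgHom.comp_assoc, hev]
  have hΦδ : specMap δ ≫ Φ = 1 := by
    rw [MonObj.comp_mul, GrpObj.comp_inv, ← Category.assoc, ← Category.assoc, specMap_comp,
      specMap_comp, hδf, mul_inv_cancel]
  let U : Set (Spec (CommRingCat.of E)) := Φ.left ⁻¹' (Set.range c.j.left)
  have hUo : IsOpen U := (c.j.left.isOpenEmbedding.isOpen_range).preimage Φ.left.continuous
  let p : PrimeSpectrum E := ⟨RingHom.ker δ.toRingHom, RingHom.ker_isPrime _⟩
  have hp : p ∈ U := by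
    let q : Spec (CommRingCat.of F) := IsLocalRing.closedPoint F
    have h1 : (specMap δ).left q = p := by
      change PrimeSpectrum.comap δ.toRingHom q = p
      ext1
      change Ideal.comap δ.toRingHom (IsLocalRing.maximalIdeal F) = RingHom.ker δ.toRingHom
      rw [IsLocalRing.maximalIdeal_eq_bot]
      rfl
    change Φ.left p ∈ Set.range c.j.left
    have h2 : Φ.left p = (specMap δ ≫ Φ).left q := by
      rw [← h1]; rfl
    rw [h2, hΦδ, ← specMap_unit c]
    exact ⟨_, rfl⟩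
  obtain ⟨_, ⟨_, ⟨h, rfl⟩, rfl⟩, hph, hhU⟩ :=
    PrimeSpectrum.isBasis_basic_opens.exists_subset_of_mem_open hp hUo
  have hδh : δ h ≠ 0 := hph
  obtain ⟨⟨h₀, s⟩, hh₀⟩ := IsLocalization.surj (Submonoid.powers xy) h
  have hh₀' : h * iE s = iE h₀ := hh₀
  have hδh₀ : δA h₀ ≠ 0 := by
    rw [← hδ, AlgHom.comp_apply, ← hh₀', map_mul]
    refine mul_ne_zero hδh ?_
    have : IsUnit (iE s) := IsLocalization.map_units E s
    exact (this.map δ).ne_zero
  let Q₀ : A := xy * h₀
  let C := Localization.Away Q₀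
  let iC : A →ₐ[k] C := IsScalarTower.toAlgHom k A C
  have hQ₀ : IsUnit (iC Q₀) := IsLocalization.Away.algebraMap_isUnit Q₀
  have hxyC : IsUnit (iC xy) := by rw [map_mul] at hQ₀; exact isUnit_of_mul_isUnit_left hQ₀
  have hh₀C : IsUnit (iC h₀) := by rw [map_mul] at hQ₀; exact isUnit_of_mul_isUnit_right hQ₀
  let iEC : E →ₐ[k] C := IsLocalization.liftAlgHom (M := Submonoid.powers xy) (f := iC) (by
    rintro ⟨_, n, rfl⟩
    rw [map_pow]
    exact hxyC.pow n)
  have hiEC : iEC.comp iE = iC := by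
    ext1 a
    exact IsLocalization.lift_eq _ a
  have hhC : IsUnit (iEC h) := by
    have h1 : iEC h * iEC (iE s) = iC h₀ := by rw [← map_mul, hh₀', ← hiEC]; rfl
    exact isUnit_of_mul_isUnit_left (h1 ▸ hh₀C)
  obtain ⟨ρ, hρ⟩ := alg_exists c.j (specMap iEC ≫ Φ) (by
    rintro _ ⟨z, rfl⟩
    have h1 : (specMap iEC).left z ∈ U := by
      apply hhU
      change h ∉ Ideal.comap iEC.toRingHom z.asIdeal
      rw [Ideal.mem_comap]
      intro h2
      exact z.isPrime.ne_top (Ideal.eq_top_of_isUnit_mem _ h2 hhC)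
    exact h1)
  obtain ⟨b, hb⟩ := IsLocalization.exist_integer_multiples_of_finite (Submonoid.powers Q₀)
    (fun i => ρ (c.x i))
  choose P₀ hP₀ using hb
  have hP₀' : ∀ i, iC (P₀ i) = iC b * ρ (c.x i) := by
    intro i
    have := hP₀ i
    rw [Algebra.smul_def] at this
    exact this
  obtain ⟨N, hN⟩ := b.2
  -- the common construction
  have key : ∀ (L : Type u) [Field L] [Algebra k L] (θ : A →ₐ[k] L), θ Q₀ ≠ 0 →
        ∃ θ₁ θ₂ : F →ₐ[k] L,
          θ₁.comp (IsScalarTower.toAlgHom k k⟦X⟧ F) = θ.comp (phi1 k) ∧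
          θ₂.comp (IsScalarTower.toAlgHom k k⟦X⟧ F) = θ.comp (phi2 k) ∧
          ∃ ρ' : c.B →ₐ[k] L, (∀ i, θ (Q₀ * b) * ρ' (c.x i) = θ (Q₀ * P₀ i)) ∧
            specMap ρ' ≫ c.j = (specMap θ₂ ≫ f) * (specMap θ₁ ≫ f)⁻¹ := by
    intro L _ _ θ hθ
    let θC : C →ₐ[k] L := IsLocalization.liftAlgHom (M := Submonoid.powers Q₀) (f := θ) (by
      rintro ⟨_, n, rfl⟩
      rw [map_pow]
      exact (IsUnit.mk0 _ hθ).pow n)
    have hθC : θC.comp iC = θ := by
      ext1 a
      exact IsLocalization.lift_eq _ a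
    refine ⟨(θC.comp iEC).comp f₁, (θC.comp iEC).comp f₂, ?_, ?_, θC.comp ρ, ?_, ?_⟩
    · rw [AlgHom.comp_assoc, hf₁, ← AlgHom.comp_assoc, AlgHom.comp_assoc θC, hiEC, hθC]
    · rw [AlgHom.comp_assoc, hf₂, ← AlgHom.comp_assoc, AlgHom.comp_assoc θC, hiEC, hθC]
    · intro i
      have h1 := congrArg θC (hP₀' i)
      rw [map_mul] at h1
      have h2 : ∀ a, θC (iC a) = θ a := fun a => DFunLike.congr_fun hθC a
      rw [h2, h2] at h1
      have h3 : θ (Q₀ * b) = θ Q₀ * θ b := map_mul _ _ _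
      have h4 : θ (Q₀ * P₀ i) = θ Q₀ * θ (P₀ i) := map_mul _ _ _
      rw [h3, h4, h1, _root_.mul_assoc]
      rfl
    · have h1 : specMap (θC.comp ρ) ≫ c.j = specMap θC ≫ specMap iEC ≫ Φ := by
        rw [← specMap_comp, Category.assoc, hρ]
      have h2 : specMap ((θC.comp iEC).comp f₂) ≫ f = specMap θC ≫ specMap iEC ≫ specMap f₂ ≫ f := by
        rw [← specMap_comp, ← specMap_comp]
        simp only [Category.assoc]
      have h3 : specMap ((θC.comp iEC).comp f₁) ≫ f = specMap θC ≫ specMap iEC ≫ specMap f₁ ≫ f := by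
        rw [← specMap_comp, ← specMap_comp]
        simp only [Category.assoc]
      rw [h1, h2, h3, MonObj.comp_mul, MonObj.comp_mul, GrpObj.comp_inv, GrpObj.comp_inv]
  have hδQ₀ : δA Q₀ ≠ 0 := by
    rw [map_mul]
    exact mul_ne_zero hδxy hδh₀
  have hδb : δA b ≠ 0 := by
    rw [← hN, map_pow]
    exact pow_ne_zero _ hδQ₀
  refine ⟨fun i => Q₀ * P₀ i, Q₀ * b, ?_, ?_, ?_⟩
  · intro i e he
    obtain ⟨θ₁, θ₂, h1, h2, ρ', h3, h4⟩ := key F δA hδQ₀
    have h5 : θ₁ = θ₂ := by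
      apply extF_unique
      rw [h1, h2, AlgHom.comp_assoc, AlgHom.comp_assoc, hev]
    rw [h5, mul_inv_cancel, ← specMap_unit c] at h4
    have h6 := alg_unique c.j h4
    have h7 := h3 i
    have h9 : ρ' (c.x i) = 0 := by
      rw [h6]
      change Algebra.ofId k F (c.eps (c.x i)) = 0
      rw [c.eps_x, map_zero]
    rw [h9, mul_zero] at h7
    have h8 : ev0 (Q₀ * P₀ i) = 0 := hiF (by rw [map_zero]; exact h7.symm)
    exact one_le_of_ev0_eq_zero h8 he
  · apply exists_of_ev0_ne_zero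
    intro h1
    have h2 : δA (Q₀ * b) = 0 := by
      change iF (ev0 (Q₀ * b)) = 0
      rw [h1, map_zero]
    rw [map_mul] at h2
    exact mul_ne_zero hδQ₀ hδb h2
  · intro L _ _ θ hθ
    refine key L θ ?_
    intro h1
    apply hθ
    rw [map_mul, h1, zero_mul]

end main

end Groth.Agent.Sga7.H741.Arc
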