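import Groth.Agent.Models.WeilPts
import Mathlib.AlgebraicGeometry.Morphisms.FiniteType
import Mathlib.RingTheory.PowerSeries.Inverse
import Mathlib.RingTheory.Localization.Integer
import Mathlib.RingTheory.FiniteType

/-!
# Affine charts at the unit section of a group scheme over a field
-/

set_option autoImplicit false

universe u

open CategoryTheory AlgebraicGeometry Limits MonObj

namespace Groth.Agent.Sga7.H741.Chart

open Groth.Agent.Models.WeilPts

section lifting

variable {R : Type u} [CommRing R]

/-- Uniqueness of factorisations through an open immersion. -/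
lemma alg_unique {G : Over (Spec (CommRingCat.of R))} {B C : Type u} [CommRing B] [Algebra R B]
    [CommRing C] [Algebra R C] (j : SpecO R B ⟶ G) [IsOpenImmersion j.left]
    {ρ ρ' : B →ₐ[R] C} (h : specMap ρ ≫ j = specMap ρ' ≫ j) : ρ = ρ' := by
  have h1 : Spec.map (CommRingCat.ofHom ρ.toRingHom) ≫ j.left =
      Spec.map (CommRingCat.ofHom ρ'.toRingHom) ≫ j.left := congr($(h).left)
  rw [cancel_mono] at h1
  have h2 := Spec.map_injective h1
  ext b
  exact congr($(h2).hom b)

/-- Existence of factorisations through an open immersion. -/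
lemma alg_exists {G : Over (Spec (CommRingCat.of R))} {B C : Type u} [CommRing B] [Algebra R B]
    [CommRing C] [Algebra R C] (j : SpecO R B ⟶ G) [IsOpenImmersion j.left]
    (g : SpecO R C ⟶ G) (h : Set.range g.left ⊆ Set.range j.left) :
    ∃ ρ : B →ₐ[R] C, specMap ρ ≫ j = g := by
  let l : Spec (CommRingCat.of C) ⟶ Spec (CommRingCat.of B) := IsOpenImmersion.lift j.left g.left h
  have hl : l ≫ j.left = g.left := IsOpenImmersion.lift_fac _ _ _
  let ρ₀ : CommRingCat.of B ⟶ CommRingCat.of C := Spec.preimage l
  have hρ₀ : Spec.map ρ₀ = l := Spec.map_preimage l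
  have hcomm : CommRingCat.ofHom (algebraMap R B) ≫ ρ₀ = CommRingCat.ofHom (algebraMap R C) := by
    apply Spec.map_injective
    rw [Spec.map_comp, hρ₀]
    have h1 : g.left ≫ G.hom = Spec.map (CommRingCat.ofHom (algebraMap R C)) := Over.w g
    have h2 : j.left ≫ G.hom = Spec.map (CommRingCat.ofHom (algebraMap R B)) := Over.w j
    rw [← h1, ← h2, ← hl, Category.assoc]
  let ρ : B →ₐ[R] C := { ρ₀.hom with
    commutes' := fun r => congr($(hcomm).hom r) }
  refine ⟨ρ, ?_⟩
  ext1
  change Spec.map (CommRingCat.ofHom ρ.toRingHom) ≫ j.left = g.left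
  have : CommRingCat.ofHom ρ.toRingHom = ρ₀ := rfl
  rw [this, hρ₀, hl]

/-- A point with values in a local ring whose closed point lies in an open set lies in it. -/
lemma range_subset_of_closedPoint {X : Scheme.{u}} {C : Type u} [CommRing C] [IsLocalRing C]
    (g : Spec (CommRingCat.of C) ⟶ X) (U : Set X) (hU : IsOpen U)
    (h : g (IsLocalRing.closedPoint C) ∈ U) : Set.range g ⊆ U := by
  rintro _ ⟨p, rfl⟩
  have hs : p ⤳ IsLocalRing.closedPoint C := by
    have := (IsLocalRing.specializes_closedPoint (R := C) p)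
    exact this
  exact (hs.map g.continuous).mem_open hU h

end lifting

/-- An affine chart at the unit section. -/
structure UnitChart {k : Type u} [Field k] (G : Over (Spec (CommRingCat.of k))) [GrpObj G] where
  /-- coordinate ring -/
  B : Type u
  [ring : CommRing B]
  [alg : Algebra k B]
  /-- the inclusion -/
  j : SpecO k B ⟶ G
  [imm : IsOpenImmersion j.left]
  /-- number of generators -/
  r : ℕ
  /-- generators -/
  x : Fin r → B
  gen : Algebra.adjoin k (Set.range x) = ⊤
  /-- the augmentation -/
  eps : B →ₐ[k] k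
  eps_x : ∀ i, eps (x i) = 0
  unit : specMap eps ≫ j = 1

attribute [instance] UnitChart.ring UnitChart.alg UnitChart.imm

lemma exists_chart {k : Type u} [Field k] (G : Over (Spec (CommRingCat.of k))) [GrpObj G]
    [LocallyOfFiniteType G.hom] : Nonempty (UnitChart G) := by
  let e : SpecO k k ⟶ G := 1
  let pt : Spec (CommRingCat.of k) := IsLocalRing.closedPoint k
  obtain ⟨V, hV, hpt⟩ : ∃ V : G.left.Opens, IsAffineOpen V ∧ e.left pt ∈ V := by
    obtain ⟨V, hV, hpt, -⟩ := exists_isAffineOpen_mem_and_subset (x := e.left pt) (U := ⊤)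
      trivial
    exact ⟨V, hV, hpt⟩
  let B : Type u := Γ(G.left, V)
  let φ : CommRingCat.of k ⟶ Γ(G.left, V) := Spec.preimage (hV.fromSpec ≫ G.hom)
  have hφ : Spec.map φ = hV.fromSpec ≫ G.hom := Spec.map_preimage _
  let _ : Algebra k B := φ.hom.toAlgebra
  have hφ' : Spec.map (CommRingCat.ofHom (algebraMap k B)) = hV.fromSpec ≫ G.hom := hφ
  let j : SpecO k B ⟶ G := Over.homMk hV.fromSpec hφ'.symm
  have : IsOpenImmersion j.left := inferInstanceAs (IsOpenImmersion hV.fromSpec)
  have hrange : Set.range j.left = V := hV.range_fromSpec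
  have hft : LocallyOfFiniteType (Spec.map (CommRingCat.ofHom (algebraMap k B))) := by
    rw [hφ']; infer_instance
  have hft2 : (algebraMap k B).FiniteType := by
    have := (HasRingHomProperty.Spec_iff (P := @LocallyOfFiniteType)).1 hft
    simpa using this
  have hft3 : Algebra.FiniteType k B := hft2
  obtain ⟨s, hs⟩ := hft3.out
  obtain ⟨eps, heps⟩ := alg_exists j e (by
    rw [hrange]
    exact range_subset_of_closedPoint e.left _ V.isOpen hpt)
  let y : Fin s.card → B := fun i => (s.equivFin.symm i : B)
  have hy : Set.range y = s := by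
    ext b
    constructor
    · rintro ⟨i, rfl⟩
      exact (s.equivFin.symm i).2
    · intro hb
      exact ⟨s.equivFin ⟨b, hb⟩, by simp [y]⟩
  refine ⟨{ B := B, j := j, r := s.card, x := fun i => y i - algebraMap k B (eps (y i)),
            gen := ?_, eps := eps, eps_x := ?_, unit := heps }⟩
  · rw [eq_top_iff, ← hs, Algebra.adjoin_le_iff]
    intro b hb
    rw [← hy] at hb
    obtain ⟨i, rfl⟩ := hb
    have h1 : y i = (y i - algebraMap k B (eps (y i))) + algebraMap k B (eps (y i)) := by ring
    rw [SetLike.mem_coe, h1]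
    refine add_mem (Algebra.subset_adjoin ⟨i, rfl⟩) (Subalgebra.algebraMap_mem _ _)
  · intro i
    simp

end Groth.Agent.Sga7.H741.Chart
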