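import Groth.Agent.Sga7.H730.Dv

/-!
# Values of rational functions at field valued points through an affine scheme

`X` integral, `g : Spec A ⟶ X`, `p : Spec A`, `φ ∈ O_{X, g p}`: `φ` has one fraction `a / b`, `b ∉ p`, which computes
its value at every field valued point `χ : A → L` localizing at `p` such that `Spec L → X` is dominant.
-/

set_option autoImplicit false
universe u

open AlgebraicGeometry CategoryTheory CategoryTheory.Limits TopologicalSpace Opposite
open Groth.Agent.Dix.Center Groth.Agent.Grpsch.GrowthFF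

namespace Groth.Agent.Sga7.H741.GaussLoc

open Groth.Agent.Sga7.H730.Dv

variable {X : Scheme.{u}} [AlgebraicGeometry.IsIntegral X]

/-- `IsVal g χ n`: `n : K(X) → L` is the evaluation at the `L`-valued point `χ ≫ g`. -/
def IsVal {A L : Type u} [CommRing A] [Field L] (g : Spec (CommRingCat.of A) ⟶ X) (χ : A →+* L)
    (n : X.functionField →+* L) : Prop :=
  Spec.map (CommRingCat.ofHom n) ≫ X.fromSpecStalk (genericPoint X) = Spec.map (CommRingCat.ofHom χ) ≫ g

theorem exists_frac {A : Type u} [CommRing A] (g : Spec (CommRingCat.of A) ⟶ X)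
    (p : Spec (CommRingCat.of A)) (φ : X.functionField) (hφ : φ ∈ O X (g p)) :
    ∃ a b : A, b ∉ (show PrimeSpectrum A from p).asIdeal ∧ ∀ (L : Type u) [Field L] (χ : A →+* L)
      (n : X.functionField →+* L), IsVal g χ n →
      (∀ y : A, y ∉ (show PrimeSpectrum A from p).asIdeal → χ y ≠ 0) → χ b * n φ = χ a := by
  obtain ⟨c, rfl⟩ := hφ
  let p' : PrimeSpectrum A := p
  let st : A →+* (Spec (CommRingCat.of A)).presheaf.stalk p :=
    (StructureSheaf.toStalk (CommRingCat.of A) p).hom
  let _ : Algebra A ((Spec (CommRingCat.of A)).presheaf.stalk p) := st.toAlgebra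
  have : IsLocalization.AtPrime ((Spec (CommRingCat.of A)).presheaf.stalk p) p'.asIdeal :=
    inferInstanceAs (IsLocalization.AtPrime ((Spec.structureSheaf A).presheaf.stalk p') p'.asIdeal)
  obtain ⟨a, b, hab⟩ := IsLocalization.exists_mk'_eq p'.asIdeal.primeCompl (g.stalkMap p c)
  refine ⟨a, b, b.2, fun L _ χ n hn hχ => ?_⟩
  let χp : (Spec (CommRingCat.of A)).presheaf.stalk p →+* L :=
    IsLocalization.lift (M := p'.asIdeal.primeCompl) (g := χ) (fun y => (hχ y y.2).isUnit)
  have h1 : χp.comp st = χ := IsLocalization.lift_comp _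
  have h2 : Spec.map (CommRingCat.ofHom χ) = Spec.map (CommRingCat.ofHom χp) ≫
      (Spec (CommRingCat.of A)).fromSpecStalk p := by
    have e : CommRingCat.ofHom χ = StructureSheaf.toStalk (CommRingCat.of A) p ≫ CommRingCat.ofHom χp := by
      ext x
      exact (DFunLike.congr_fun h1 x).symm
    rw [e, Spec.fromSpecStalk_eq']
    exact Spec.map_comp _ _
  have h3 : Spec.map (CommRingCat.ofHom n) ≫ Spec.map (X.presheaf.stalkSpecializes
      (genericPoint_specializes X (g p))) ≫ X.fromSpecStalk (g p) =
      Spec.map (CommRingCat.ofHom χp) ≫ Spec.map (g.stalkMap p) ≫ X.fromSpecStalk (g p) := by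
    rw [Scheme.SpecMap_stalkSpecializes_fromSpecStalk, Scheme.SpecMap_stalkMap_fromSpecStalk, ← Category.assoc,
      ← h2]
    exact hn
  rw [← Category.assoc, ← Category.assoc, cancel_mono, ← Spec.map_comp, ← Spec.map_comp] at h3
  have h4 := Spec.map_injective h3
  have h5 : n (toK X (g p) c) = χp (g.stalkMap p c) :=
    DFunLike.congr_fun (congrArg CommRingCat.Hom.hom h4) c
  have h6 : ∀ y : A, χp (algebraMap A _ y) = χ y := fun y => DFunLike.congr_fun h1 y
  rw [h5, ← hab, ← h6, ← h6, ← map_mul, IsLocalization.mk'_spec']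

end Groth.Agent.Sga7.H741.GaussLoc
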