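import Groth.Agent.Sga7.H741.GaussAlg
import Groth.Agent.Sga7.H741.GaussLoc
import Groth.Agent.Sga7.H730.Tr

/-!
# The Gauss valuation on the function field of a group scheme
-/

set_option autoImplicit false
universe u

open CategoryTheory CategoryTheory.Limits MonoidalCategory CartesianMonoidalCategory AlgebraicGeometry TopologicalSpace
open scoped MonObj TensorProduct
open Groth.Agent.Dix.Center Groth.Agent.Grpsch.GrowthFF

namespace Groth.Agent.Sga7.H741.Gauss

open Groth.Agent.Sga7.H730.Dv Groth.Agent.Sga7.H730.Tr GaussAlg GaussLoc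

section Pt

variable {k : Type u} [CommRing k]

variable (k) in
/-- `Spec A` over `Spec k`. -/
noncomputable abbrev P (A : Type u) [CommRing A] [Algebra k A] : Over (Spec (CommRingCat.of k)) :=
  Over.mk (Spec.map (CommRingCat.ofHom (algebraMap k A)))

variable {A A' A'' : Type u} [CommRing A] [Algebra k A] [CommRing A'] [Algebra k A'] [CommRing A''] [Algebra k A'']

/-- `Spec` of a homomorphism of `k`-algebras -/
noncomputable def pm (f : A →ₐ[k] A') : P k A' ⟶ P k A :=
  Over.homMk (Spec.map (CommRingCat.ofHom f.toRingHom)) (by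
    change Spec.map _ ≫ Spec.map _ = Spec.map _
    rw [← Spec.map_comp]
    congr 1
    ext x
    exact f.commutes x)

@[simp] lemma pm_left (f : A →ₐ[k] A') : (pm f).left = Spec.map (CommRingCat.ofHom f.toRingHom) := rfl

@[reassoc]
lemma pm_comp (f : A →ₐ[k] A') (g : A' →ₐ[k] A'') : pm g ≫ pm f = pm (g.comp f) := by
  apply Over.OverMorphism.ext
  rw [Over.comp_left, pm_left, pm_left, pm_left, ← Spec.map_comp]
  rfl

@[simp] lemma pm_id : pm (AlgHom.id k A) = 𝟙 _ := by
  apply Over.OverMorphism.ext
  rw [pm_left, Over.id_left]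
  exact Spec.map_id _

end Pt

variable {k : Type u} [Field k] (H : Over (Spec (CommRingCat.of k))) [AlgebraicGeometry.IsIntegral H.left]

/-- Compatibility of a `k`-algebra structure on the function field. -/
def IsStr [Algebra k H.left.functionField] : Prop :=
  H.left.fromSpecStalk (genericPoint H.left) ≫ H.hom = Spec.map (CommRingCat.ofHom (algebraMap k H.left.functionField))

variable {H} [Algebra k H.left.functionField] (hF : IsStr H)

/-- The generic point. -/
noncomputable def gp : P k H.left.functionField ⟶ H :=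
  Over.homMk (H.left.fromSpecStalk (genericPoint H.left)) hF

@[simp] lemma gp_left : (gp hF).left = H.left.fromSpecStalk (genericPoint H.left) := rfl

lemma mono_gp_left : Mono (gp hF).left := by
  rw [gp_left]
  infer_instance

lemma SpecMap_sg {X Y : Scheme.{u}} [AlgebraicGeometry.IsIntegral X] [AlgebraicGeometry.IsIntegral Y] (f : X ⟶ Y)
    (h : Dom f) : Spec.map (CommRingCat.ofHom (sg f h)) ≫ Y.fromSpecStalk (genericPoint Y) =
      X.fromSpecStalk (genericPoint X) ≫ f :=
  SpecMap_toKY f _ _

section Grp

variable [GrpObj H]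

include hF in
lemma sg_commutes (x : 𝟙_ (Over (Spec (CommRingCat.of k))) ⟶ H) (a : k) :
    sg (tr x).left (dom_tr x) (algebraMap k H.left.functionField a) = algebraMap k H.left.functionField a := by
  have h : Spec.map (CommRingCat.ofHom ((sg (tr x).left (dom_tr x)).comp (algebraMap k H.left.functionField))) =
      Spec.map (CommRingCat.ofHom (algebraMap k H.left.functionField)) := by
    have e : CommRingCat.ofHom ((sg (tr x).left (dom_tr x)).comp (algebraMap k H.left.functionField)) =
      CommRingCat.ofHom (algebraMap k H.left.functionField) ≫ CommRingCat.ofHom (sg (tr x).left (dom_tr x)) := rfl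
    rw [e, Spec.map_comp, ← (show _ = _ from hF), ← Category.assoc, SpecMap_sg, Category.assoc, Over.w]
  exact DFunLike.congr_fun (congrArg CommRingCat.Hom.hom (Spec.map_injective h)) a

/-- Translation by `x` on the function field, as an automorphism. -/
noncomputable def sig (x : 𝟙_ (Over (Spec (CommRingCat.of k))) ⟶ H) :
    H.left.functionField ≃ₐ[k] H.left.functionField :=
  AlgEquiv.ofAlgHom ⟨sg (tr x).left (dom_tr x), sg_commutes hF x⟩ ⟨sg (tr x⁻¹).left (dom_tr x⁻¹), sg_commutes hF x⁻¹⟩
    (by
      ext a
      change sg (tr x).left (dom_tr x) (sg (tr x⁻¹).left (dom_tr x⁻¹) a) = a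
      rw [← sg_comp _ _ (dom_tr x) (dom_tr x⁻¹) (Dom.comp (dom_tr x) (dom_tr x⁻¹)),
        sg_congr (show (tr x).left ≫ (tr x⁻¹).left = 𝟙 _ by
          rw [← Over.comp_left, tr_comp_tr, inv_mul_cancel, tr_one]; rfl) _ Dom.id, sg_id])
    (by
      ext a
      change sg (tr x⁻¹).left (dom_tr x⁻¹) (sg (tr x).left (dom_tr x) a) = a
      rw [← sg_comp _ _ (dom_tr x⁻¹) (dom_tr x) (Dom.comp (dom_tr x⁻¹) (dom_tr x)),
        sg_congr (show (tr x⁻¹).left ≫ (tr x).left = 𝟙 _ by
          rw [← Over.comp_left, tr_comp_tr, mul_inv_cancel, tr_one]; rfl) _ Dom.id, sg_id])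

lemma sig_apply (x : 𝟙_ (Over (Spec (CommRingCat.of k))) ⟶ H) (a : H.left.functionField) :
    sig hF x a = sg (tr x).left (dom_tr x) a := rfl

lemma pm_sig (x : 𝟙_ (Over (Spec (CommRingCat.of k))) ⟶ H) :
    pm (sig hF x).toAlgHom ≫ gp hF = gp hF ≫ tr x := by
  apply Over.OverMorphism.ext
  rw [Over.comp_left, Over.comp_left, pm_left, gp_left]
  exact SpecMap_sg (tr x).left (dom_tr x)

end Grp

section Core

variable [GrpObj H] {B : Type u} [CommRing B] [Algebra k B] (zB : P k B ⟶ H) (ε : B →ₐ[k] k)
  (ρ : B →ₐ[k] H.left.functionField)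

/-- `z * w` over `F ⊗ B` -/
noncomputable def gA : P k (H.left.functionField ⊗[k] B) ⟶ H :=
  (pm (Algebra.TensorProduct.includeRight : B →ₐ[k] H.left.functionField ⊗[k] B) ≫ zB) *
    (pm (Algebra.TensorProduct.includeLeft : H.left.functionField →ₐ[k] H.left.functionField ⊗[k] B) ≫ gp hF)

lemma pm_gA {L : Type u} [CommRing L] [Algebra k L] (χ : H.left.functionField ⊗[k] B →ₐ[k] L) :
    pm χ ≫ gA hF zB = (pm (χ.comp Algebra.TensorProduct.includeRight) ≫ zB) *
      (pm (χ.comp Algebra.TensorProduct.includeLeft) ≫ gp hF) := by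
  rw [gA, MonObj.comp_mul, pm_comp_assoc, pm_comp_assoc]

/-- evaluation at `e` -/
noncomputable def eA : H.left.functionField ⊗[k] B →ₐ[k] H.left.functionField :=
  Algebra.TensorProduct.lift (AlgHom.id k _) ((Algebra.ofId k _).comp ε) (fun _ _ => Commute.all _ _)

omit [GrpObj H] in
@[simp] lemma eA_tmul (a : H.left.functionField) (b : B) :
    eA (H := H) ε (a ⊗ₜ b) = a * algebraMap k _ (ε b) := by
  simp [eA, Algebra.ofId_apply]

lemma pm_eA (hε : pm ε ≫ zB = 1) : pm (eA ε) ≫ gA hF zB = gp hF := by
  have h1 : (eA (H := H) ε).comp Algebra.TensorProduct.includeRight = (Algebra.ofId k _).comp ε := by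
    ext b
    simp [Algebra.ofId_apply]
  have h2 : (eA (H := H) ε).comp Algebra.TensorProduct.includeLeft = AlgHom.id k _ := by
    ext b
    simp
  rw [pm_gA, h1, h2, ← pm_comp_assoc, hε, MonObj.comp_one, one_mul, pm_id, Category.id_comp]

variable (E : Type u) [Field E] [Algebra (H.left.functionField ⊗[k] H.left.functionField) E] [Algebra k E]
  [IsScalarTower k (H.left.functionField ⊗[k] H.left.functionField) E]

/-- `f ↦ f ⊗ 1` -/
noncomputable def iL : H.left.functionField →ₐ[k] E :=
  (IsScalarTower.toAlgHom k (H.left.functionField ⊗[k] H.left.functionField) E).comp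
    Algebra.TensorProduct.includeLeft

/-- `f ↦ 1 ⊗ f` -/
noncomputable def iR : H.left.functionField →ₐ[k] E :=
  (IsScalarTower.toAlgHom k (H.left.functionField ⊗[k] H.left.functionField) E).comp
    Algebra.TensorProduct.includeRight

/-- `z * w` over `E` -/
noncomputable def gE : P k E ⟶ H := (pm (iR E) ≫ gp hF) * (pm (iL E) ≫ gp hF)

/-- `F ⊗ B → F ⊗ F` -/
noncomputable def jA : H.left.functionField ⊗[k] B →ₐ[k] H.left.functionField ⊗[k] H.left.functionField :=
  Algebra.TensorProduct.map (AlgHom.id k _) ρ

/-- `F ⊗ B → E` -/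
noncomputable def ιA : H.left.functionField ⊗[k] B →ₐ[k] E :=
  (IsScalarTower.toAlgHom k (H.left.functionField ⊗[k] H.left.functionField) E).comp (jA ρ)

omit [GrpObj H] in
lemma jA_injective (hρ : Function.Injective ρ) : Function.Injective (jA (H := H) ρ) := by
  have := Module.Flat.lTensor_preserves_injective_linearMap (M := H.left.functionField) ρ.toLinearMap hρ
  exact this

omit [GrpObj H] in
lemma ιA_injective (hρ : Function.Injective ρ) [IsDomain (H.left.functionField ⊗[k] H.left.functionField)]
    [IsFractionRing (H.left.functionField ⊗[k] H.left.functionField) E] : Function.Injective (ιA (H := H) ρ E) :=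
  (IsFractionRing.injective (H.left.functionField ⊗[k] H.left.functionField) E).comp (jA_injective ρ hρ)

lemma pm_ιA (hρz : pm ρ ≫ zB = gp hF) : pm (ιA ρ E) ≫ gA hF zB = gE hF E := by
  have h1 : (ιA (H := H) ρ E).comp Algebra.TensorProduct.includeRight = (iR E).comp ρ := by
    ext b
    simp [ιA, iR, jA]
  have h2 : (ιA (H := H) ρ E).comp Algebra.TensorProduct.includeLeft = iL E := by
    ext b
    simp [ιA, iL, jA]
  rw [pm_gA, h1, h2, ← pm_comp_assoc, hρz, gE]

include ρ in
lemma gE_pt (hε : pm ε ≫ zB = 1) (hρz : pm ρ ≫ zB = gp hF) (hρ : Function.Injective ρ)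
    [IsDomain (H.left.functionField ⊗[k] H.left.functionField)]
    [IsFractionRing (H.left.functionField ⊗[k] H.left.functionField) E] :
    (gE hF E).left (IsLocalRing.closedPoint E) = genericPoint H.left := by
  have h1' : ∀ y : (P k E).left, (gE hF E).left y = (gA hF zB).left ((pm (ιA ρ E)).left y) := fun y => by
    rw [← Scheme.Hom.comp_apply, ← Over.comp_left, pm_ιA hF zB ρ E hρz]
  have h2' : ∀ y : (P k H.left.functionField).left, (gA hF zB).left ((pm (eA ε)).left y) = (gp hF).left y := fun y => by
    rw [← Scheme.Hom.comp_apply, ← Over.comp_left, pm_eA hF zB ε hε]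
  have h1 := h1' (IsLocalRing.closedPoint E)
  have h2 := (h2' (IsLocalRing.closedPoint H.left.functionField)).trans Scheme.fromSpecStalk_closedPoint
  have h3 : (pm (ιA (H := H) ρ E)).left (IsLocalRing.closedPoint E) ⤳
      (pm (eA (H := H) ε)).left (IsLocalRing.closedPoint H.left.functionField) := by
    refine (PrimeSpectrum.le_iff_specializes (PrimeSpectrum.comap (ιA (H := H) ρ E).toRingHom
      (IsLocalRing.closedPoint E)) (PrimeSpectrum.comap (eA (H := H) ε).toRingHom
      (IsLocalRing.closedPoint H.left.functionField))).1 ?_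
    intro a ha
    have h4 : ιA (H := H) ρ E a = 0 := by
      have : ιA (H := H) ρ E a ∈ IsLocalRing.maximalIdeal E := ha
      rwa [IsLocalRing.maximalIdeal_eq_bot, Ideal.mem_bot] at this
    have h5 : a = 0 := ιA_injective ρ E hρ (by rw [h4, map_zero])
    rw [h5]
    exact Ideal.zero_mem _
  have h6 : (gE hF E).left (IsLocalRing.closedPoint E) ⤳ genericPoint H.left := by
    rw [h1, ← h2]
    exact h3.map (gA hF zB).left.continuous
  exact (h6.antisymm (genericPoint_specializes _ _)).eq

include ρ in
theorem exists_m (hε : pm ε ≫ zB = 1) (hρz : pm ρ ≫ zB = gp hF) (hρ : Function.Injective ρ)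
    [IsDomain (H.left.functionField ⊗[k] H.left.functionField)]
    [IsFractionRing (H.left.functionField ⊗[k] H.left.functionField) E] :
    ∃ m : H.left.functionField →ₐ[k] E, pm m ≫ gp hF = gE hF E := by
  have hpt := gE_pt hF zB ε ρ E hε hρz hρ
  let c : H.left.presheaf.stalk ((gE hF E).left (IsLocalRing.closedPoint E)) ⟶ CommRingCat.of E :=
    Scheme.stalkClosedPointTo (R := CommRingCat.of E) (gE hF E).left
  let m : H.left.functionField ⟶ CommRingCat.of E :=
    H.left.presheaf.stalkSpecializes (specializes_of_eq hpt) ≫ c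
  have hm : Spec.map m ≫ H.left.fromSpecStalk (genericPoint H.left) = (gE hF E).left := by
    rw [Spec.map_comp, Category.assoc, Scheme.SpecMap_stalkSpecializes_fromSpecStalk]
    exact Scheme.Spec_stalkClosedPointTo_fromSpecStalk _
  have hk : ∀ a : k, m.hom (algebraMap k _ a) = algebraMap k E a := by
    have h : Spec.map (CommRingCat.ofHom (algebraMap k H.left.functionField) ≫ m) =
        Spec.map (CommRingCat.ofHom (algebraMap k E)) := by
      rw [Spec.map_comp, ← (show _ = _ from hF), ← Category.assoc, hm]
      exact Over.w (gE hF E)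
    intro a
    exact DFunLike.congr_fun (congrArg CommRingCat.Hom.hom (Spec.map_injective h)) a
  refine ⟨⟨m.hom, hk⟩, ?_⟩
  apply Over.OverMorphism.ext
  rw [Over.comp_left, pm_left, gp_left]
  exact hm

lemma pm_injective {A A' : Type u} [CommRing A] [Algebra k A] [CommRing A'] [Algebra k A'] {f g : A →ₐ[k] A'}
    (h : (pm f).left = (pm g).left) (a : A) : f a = g a :=
  DFunLike.congr_fun (congrArg CommRingCat.Hom.hom (Spec.map_injective h)) a

omit [GrpObj H] in
lemma comp_gp_injective {L : Type u} [CommRing L] [Algebra k L] {f g : H.left.functionField →ₐ[k] L}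
    (h : pm f ≫ gp hF = pm g ≫ gp hF) (a : H.left.functionField) : f a = g a := by
  have := mono_gp_left hF
  apply pm_injective
  rw [← cancel_mono (gp hF).left, ← Over.comp_left, ← Over.comp_left, h]

theorem theta_m (m : H.left.functionField →ₐ[k] E) (hm : pm m ≫ gp hF = gE hF E)
    (x : 𝟙_ (Over (Spec (CommRingCat.of k))) ⟶ H) (θ : E →+* E)
    (hθ : ∀ s, θ (algebraMap (H.left.functionField ⊗[k] H.left.functionField) E s) =
      algebraMap (H.left.functionField ⊗[k] H.left.functionField) E (act k _ _ (sig hF x) s))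
    (f : H.left.functionField) : θ (m f) = m (sig hF x f) := by
  let θ' : E →ₐ[k] E := ⟨θ, fun a => by
    change θ _ = _
    rw [IsScalarTower.algebraMap_apply k (H.left.functionField ⊗[k] H.left.functionField) E, hθ,
      AlgEquiv.commutes]⟩
  have hR : θ'.comp (iR E) = (iR E).comp (sig hF x).toAlgHom := by
    ext a
    change θ (algebraMap (H.left.functionField ⊗[k] H.left.functionField) E (1 ⊗ₜ a)) =
      algebraMap (H.left.functionField ⊗[k] H.left.functionField) E (1 ⊗ₜ (sig hF x a))
    rw [hθ, act_tmul]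
  have hL : θ'.comp (iL (H := H) E) = iL (H := H) E := by
    ext a
    change θ (algebraMap (H.left.functionField ⊗[k] H.left.functionField) E (a ⊗ₜ 1)) =
      algebraMap (H.left.functionField ⊗[k] H.left.functionField) E (a ⊗ₜ 1)
    rw [hθ, act_tmul, map_one]
  have h1 : pm θ' ≫ gE hF E = gE hF E ≫ tr x := by
    rw [comp_tr, gE, MonObj.comp_mul, pm_comp_assoc, pm_comp_assoc, hR, hL, ← pm_comp_assoc, pm_sig,
      ← Category.assoc, comp_tr, mul_assoc]
  have h2 : pm (θ'.comp m) ≫ gp hF = pm (m.comp (sig hF x).toAlgHom) ≫ gp hF := by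
    rw [← pm_comp_assoc, hm, h1, ← hm, ← pm_comp_assoc, pm_sig, Category.assoc]
  exact comp_gp_injective hF h2 f

omit [Algebra k H.left.functionField] [GrpObj H] in
lemma mem_O_genericPoint (φ : H.left.functionField) : φ ∈ O H.left (genericPoint H.left) := by
  refine ⟨φ, ?_⟩
  have h := H.left.presheaf.stalkSpecializes_refl (genericPoint H.left)
  exact DFunLike.congr_fun (congrArg CommRingCat.Hom.hom h) φ

variable (R : Type u) [CommRing R] [IsDomain R] [IsDiscreteValuationRing R] [Algebra k R]
  [Algebra R H.left.functionField] [IsFractionRing R H.left.functionField] [IsScalarTower k R H.left.functionField]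

omit [GrpObj H] in
lemma ev_jA (l : H.left.functionField →ₗ[k] k) (hl : ∀ b, l (ρ b) = ε b) (x : H.left.functionField ⊗[k] B) :
    ev H.left.functionField l (jA ρ x) = eA ε x := by
  induction x using TensorProduct.induction_on with
  | zero => simp
  | tmul a b =>
    change ev H.left.functionField l (a ⊗ₜ ρ b) = _
    rw [ev_tmul, hl, eA_tmul, mul_comm]
  | add x y hx hy => rw [map_add, map_add, hx, hy, map_add]

include hF in
theorem exists_w_aux [IsAlgClosed k] [CompactSpace H.left] [Algebra.FiniteType k B] (hε : pm ε ≫ zB = 1)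
    (hρz : pm ρ ≫ zB = gp hF) (hρ : Function.Injective ρ)
    [IsDomain (H.left.functionField ⊗[k] H.left.functionField)]
    [IsFractionRing (H.left.functionField ⊗[k] H.left.functionField) E] :
    ∃ w : H.left.functionFieldˣ →* Multiplicative ℤ,
      (∀ (x : 𝟙_ (Over (Spec (CommRingCat.of k))) ⟶ H) (f : H.left.functionFieldˣ), w (ta x f) = w f) ∧
      ∀ D : Dvs H.left, (∀ p : H.left, ∃ (U : H.left.Opens) (φ : H.left.functionFieldˣ), p ∈ U ∧
          ∀ q ∈ U, D q = QuotientGroup.mk φ) →
        ∃ c : H.left.functionFieldˣ, ∀ f : H.left.functionFieldˣ,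
          (∀ q : H.left, ∃ φ : H.left.functionFieldˣ, (φ : H.left.functionField) ∈ O H.left q ∧
            (dv f * D) q = QuotientGroup.mk φ) →
          1 ≤ w f → ∃ r : R, algebraMap R H.left.functionField r = c * f := by
  classical
  obtain ⟨m, hm⟩ := exists_m hF zB ε ρ E hε hρz hρ
  obtain ⟨v, hv1, hv2, hv3⟩ := exists_gaussVal k R H.left.functionField H.left.functionField E
  refine ⟨v.comp (Units.map (m : H.left.functionField →* E)), ?_, ?_⟩
  · intro x f
    let g : H.left.functionField ⊗[k] H.left.functionField →+* E :=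
      (algebraMap (H.left.functionField ⊗[k] H.left.functionField) E).comp
        (act k H.left.functionField H.left.functionField (sig hF x)).toRingEquiv.toRingHom
    have hg : Function.Injective g := (IsFractionRing.injective _ _).comp (act k _ _ (sig hF x)).injective
    let θ : E →+* E := IsFractionRing.lift hg
    have hθ : ∀ s, θ (algebraMap (H.left.functionField ⊗[k] H.left.functionField) E s) =
      algebraMap (H.left.functionField ⊗[k] H.left.functionField) E (act k _ _ (sig hF x) s) := fun s =>
        IsFractionRing.lift_algebraMap hg s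
    have h1 : Units.map (m : H.left.functionField →* E) (ta x f) =
        Units.map (θ : E →* E) (Units.map (m : H.left.functionField →* E) f) := by
      apply Units.ext
      exact (theta_m hF E m hm x θ hθ f).symm
    rw [MonoidHom.comp_apply, MonoidHom.comp_apply, h1]
    exact hv1 (sig hF x) θ hθ _
  · intro D hD
    let io := ιA (H := H) ρ E
    have hio : Function.Injective io := ιA_injective ρ E hρ
    have hio0 : ∀ a, a ≠ 0 → io a ≠ 0 := fun a ha h => ha (hio (by rw [h, map_zero]))
    have hm0 : ∀ f : H.left.functionFieldˣ, m f ≠ 0 := fun f h => f.ne_zero (m.toRingHom.injective (by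
      rw [map_zero]; exact h))
    have hvalE : IsVal (gA hF zB).left io.toRingHom m.toRingHom := by
      have h1 : pm m ≫ gp hF = pm io ≫ gA hF zB := by rw [hm, pm_ιA hF zB ρ E hρz]
      have h2 := congrArg (fun f => f.left) h1
      exact h2
    have hvalF : IsVal (gA hF zB).left (eA (H := H) ε).toRingHom (RingHom.id H.left.functionField) := by
      have h1 : pm (AlgHom.id k H.left.functionField) ≫ gp hF = pm (eA ε) ≫ gA hF zB := by
        rw [pm_eA hF zB ε hε, pm_id, Category.id_comp]
      have h2 := congrArg (fun f => f.left) h1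
      exact h2
    -- fractions at a point
    have fracp : ∀ (p : PrimeSpectrum (H.left.functionField ⊗[k] B)) (φ : H.left.functionField),
        φ ∈ O H.left ((gA hF zB).left p) → ∃ a b, b ∉ p.asIdeal ∧ io b * m φ = io a := by
      intro p φ hφ
      obtain ⟨a, b, hb, h⟩ := exists_frac (gA hF zB).left p φ hφ
      exact ⟨a, b, hb, h E io.toRingHom m.toRingHom hvalE
        (fun y hy => hio0 y (fun h0 => hy (by rw [h0]; exact Ideal.zero_mem _)))⟩
    let p₀ : PrimeSpectrum (H.left.functionField ⊗[k] B) := ⟨RingHom.ker (eA (H := H) ε), RingHom.ker_isPrime _⟩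
    have hp₀ : (gA hF zB).left p₀ = genericPoint H.left := by
      have h2' : ∀ y : (P k H.left.functionField).left,
          (gA hF zB).left ((pm (eA ε)).left y) = (gp hF).left y := fun y => by
        rw [← Scheme.Hom.comp_apply, ← Over.comp_left, pm_eA hF zB ε hε]
      have h2 := (h2' (IsLocalRing.closedPoint H.left.functionField)).trans Scheme.fromSpecStalk_closedPoint
      rw [← h2]
      congr 1
      apply PrimeSpectrum.ext
      ext a
      change a ∈ RingHom.ker (eA (H := H) ε) ↔ eA (H := H) ε a ∈ IsLocalRing.maximalIdeal H.left.functionField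
      rw [IsLocalRing.maximalIdeal_eq_bot, Ideal.mem_bot, RingHom.mem_ker]
    have frac0 : ∀ φ : H.left.functionField, ∃ a b, eA ε b ≠ 0 ∧ io b * m φ = io a ∧ eA ε b * φ = eA ε a := by
      intro φ
      obtain ⟨a, b, hb, h⟩ := exists_frac (gA hF zB).left p₀ φ (by rw [hp₀]; exact mem_O_genericPoint φ)
      refine ⟨a, b, hb, h E io.toRingHom m.toRingHom hvalE
        (fun y hy => hio0 y (fun h0 => hy (by rw [h0]; exact Ideal.zero_mem _))),
        h H.left.functionField (eA (H := H) ε).toRingHom (RingHom.id H.left.functionField) hvalF ?_⟩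
      intro y hy
      exact hy
    have key1 : ∀ (b a : H.left.functionField ⊗[k] B) (f : H.left.functionField), io b * m f = io a →
        eA ε b * f = eA ε a := by
      intro b a f h
      obtain ⟨a₁, b₁, hb₁, h1, h2⟩ := frac0 f
      have h3 : b₁ * a = b * a₁ := by
        apply hio
        rw [map_mul, map_mul, ← h, ← h1]
        ring
      have h4 := congrArg (eA (H := H) ε) h3
      rw [map_mul, map_mul, ← h2] at h4
      apply mul_left_cancel₀ hb₁
      rw [h4]
      ring
    -- common denominators
    choose U φ hpU hφ using hD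
    obtain ⟨t, ht⟩ := isCompact_univ.elim_nhds_subcover (fun p => (U p : Set H.left))
      (fun p _ => (U p).isOpen.mem_nhds (hpU p))
    choose α β hβ hαβ _ using fun p => frac0 (φ p)
    have hα : ∀ p, α p ≠ 0 := by
      intro p h0
      have h1 := hαβ p
      rw [h0, map_zero] at h1
      rcases mul_eq_zero.1 h1 with h | h
      · exact hio0 _ (fun h2 => hβ p (by rw [h2, map_zero])) h
      · exact hm0 _ h
    have hAdom : IsDomain (H.left.functionField ⊗[k] B) := hio.isDomain io.toRingHom
    let d := ∏ p ∈ t, α p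
    have hd : d ≠ 0 := Finset.prod_ne_zero_iff.2 fun p _ => hα p
    have claim1 : ∀ f : H.left.functionFieldˣ, (∀ q : H.left, ∃ φ : H.left.functionFieldˣ,
        (φ : H.left.functionField) ∈ O H.left q ∧ (dv f * D) q = QuotientGroup.mk φ) →
        ∃ a, io a = io d * m f := by
      intro f hf
      let I : Ideal (H.left.functionField ⊗[k] B) :=
        { carrier := {b | ∃ a, io b * (io d * m f) = io a}
          add_mem' := by
            rintro b b' ⟨a, ha⟩ ⟨a', ha'⟩
            exact ⟨a + a', by rw [map_add, map_add, add_mul, ha, ha']⟩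
          zero_mem' := ⟨0, by rw [map_zero, zero_mul]⟩
          smul_mem' := by
            rintro c b ⟨a, ha⟩
            exact ⟨c * a, by rw [smul_eq_mul, map_mul, map_mul, mul_assoc, ha]⟩ }
      have hI : I = ⊤ := by
        by_contra hne
        obtain ⟨M, hM, hIM⟩ := Ideal.exists_le_maximal I hne
        let p : PrimeSpectrum (H.left.functionField ⊗[k] B) := ⟨M, hM.isPrime⟩
        have hcov := ht.2 (Set.mem_univ ((gA hF zB).left p))
        simp only [Set.mem_iUnion] at hcov
        obtain ⟨i, hi, hpi⟩ := hcov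
        obtain ⟨ψ, hψ, hψe⟩ := hf ((gA hF zB).left p)
        rw [Dvs.mul_apply, dv_apply, hφ i _ hpi, ← QuotientGroup.mk_mul, QuotientGroup.eq] at hψe
        have h1 : ((f * φ i : H.left.functionFieldˣ) : H.left.functionField) ∈ O H.left ((gA hF zB).left p) := by
          have h2 : f * φ i = ψ * ((f * φ i)⁻¹ * ψ)⁻¹ := by
            rw [mul_inv_rev, inv_inv, mul_inv_cancel_left]
          rw [h2, Units.val_mul]
          exact (O H.left _).mul_mem hψ hψe.2
        obtain ⟨a, b, hb, hab⟩ := fracp p _ h1
        apply hb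
        apply hIM
        refine ⟨(∏ j ∈ t.erase i, α j) * (β i * a), ?_⟩
        have h3 : d = α i * ∏ j ∈ t.erase i, α j := (Finset.mul_prod_erase t α hi).symm
        rw [h3, map_mul, map_mul, map_mul, ← hab, ← hαβ i, Units.val_mul, map_mul]
        ring
      obtain ⟨a, ha⟩ : (1 : H.left.functionField ⊗[k] B) ∈ I := by rw [hI]; trivial
      exact ⟨a, by rw [← ha, map_one, one_mul]⟩
    have hNoeth : IsNoetherianRing (H.left.functionField ⊗[k] B) :=
      Algebra.FiniteType.isNoetherianRing H.left.functionField _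
    let G : Set (H.left.functionField ⊗[k] B) := {a | ∃ f : H.left.functionFieldˣ,
      (∀ q : H.left, ∃ φ : H.left.functionFieldˣ,
        (φ : H.left.functionField) ∈ O H.left q ∧ (dv f * D) q = QuotientGroup.mk φ) ∧ io a = io d * m f}
    obtain ⟨s₀, hs₀, hspan⟩ := (Submodule.fg_span_iff_fg_span_finset_subset G).1
      ((isNoetherian_def.1 hNoeth) (Submodule.span _ G))
    have hgen : ∀ a ∈ s₀, ∃ b a', eA (H := H) ε b ≠ 0 ∧ b * a = d * a' := by
      intro a ha
      obtain ⟨f, -, hf⟩ := hs₀ ha
      obtain ⟨a', b, hb, h1, -⟩ := frac0 f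
      refine ⟨b, a', hb, hio ?_⟩
      rw [map_mul, map_mul, hf, ← h1]
      ring
    choose! bb aa hbb hba using hgen
    let b := ∏ a ∈ s₀, bb a
    have hb : eA (H := H) ε b ≠ 0 := by
      rw [map_prod]
      exact Finset.prod_ne_zero_iff.2 fun a ha => hbb a ha
    have claimJ : ∀ a ∈ G, d ∣ b * a := by
      intro a ha
      have ha' : a ∈ Submodule.span (H.left.functionField ⊗[k] B) (s₀ : Set (H.left.functionField ⊗[k] B)) := by
        rw [← hspan]
        exact Submodule.subset_span ha
      clear ha
      induction ha' using Submodule.span_induction with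
      | mem x hx =>
        have hx' : x ∈ s₀ := hx
        refine ⟨(∏ j ∈ s₀.erase x, bb j) * aa x, ?_⟩
        have h3 : b = bb x * ∏ j ∈ s₀.erase x, bb j := (Finset.mul_prod_erase s₀ bb hx').symm
        rw [h3, mul_assoc, mul_comm _ x, ← mul_assoc, hba x hx']
        ring
      | zero => simp
      | add x y _ _ hx hy =>
        rw [mul_add]
        exact dvd_add hx hy
      | smul c x _ hx =>
        rw [smul_eq_mul, mul_left_comm]
        exact Dvd.dvd.mul_left hx c
    have claim2 : ∀ f : H.left.functionFieldˣ, (∀ q : H.left, ∃ φ : H.left.functionFieldˣ,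
        (φ : H.left.functionField) ∈ O H.left q ∧ (dv f * D) q = QuotientGroup.mk φ) →
        ∃ a, io b * m f = io a := by
      intro f hf
      obtain ⟨a, ha⟩ := claim1 f hf
      obtain ⟨a', ha'⟩ := claimJ a ⟨f, hf, ha⟩
      refine ⟨a', mul_left_cancel₀ (hio0 d hd) ?_⟩
      rw [← map_mul, ← ha', map_mul, ha]
      ring
    -- scaling
    obtain ⟨r, hr, t', ht'⟩ := exists_den (R := R) (jA ρ b)
    have hr' : algebraMap R H.left.functionField r ≠ 0 := fun h =>
      hr ((map_eq_zero_iff _ (IsFractionRing.injective R H.left.functionField)).1 h)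
    have hj : ∀ x, jA (H := H) ρ ((algebraMap R H.left.functionField r ⊗ₜ 1) * x) =
        (algebraMap R H.left.functionField r ⊗ₜ 1) * jA ρ x := by
      intro x
      rw [map_mul]
      congr 1
      change algebraMap R H.left.functionField r ⊗ₜ ρ 1 = _
      rw [map_one]
    have hb0 : b ≠ 0 := fun h => hb (by rw [h, map_zero])
    have hsmul : ∀ x, eA (H := H) ε ((algebraMap R H.left.functionField r ⊗ₜ 1) * x) =
        algebraMap R H.left.functionField r * eA ε x := by
      intro x
      rw [map_mul, eA_tmul, map_one, map_one, mul_one]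
    have hrb : (algebraMap R H.left.functionField r ⊗ₜ[k] (1 : B)) * b ≠ 0 := by
      intro h
      have := congrArg (eA (H := H) ε) h
      rw [hsmul, map_zero] at this
      exact mul_ne_zero hr' hb this
    have hu0 : io ((algebraMap R H.left.functionField r ⊗ₜ[k] (1 : B)) * b) ≠ 0 := hio0 _ hrb
    have hioj : ∀ x, io x = algebraMap (H.left.functionField ⊗[k] H.left.functionField) E (jA ρ x) := fun _ => rfl
    let u : Eˣ := Units.mk0 _ hu0
    have hu1 : 1 ≤ v u := hv2 t' u (by
      change io _ = _
      rw [hioj, hj, ht'])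
    refine ⟨Units.mk0 (algebraMap R H.left.functionField r * eA (H := H) ε b) (mul_ne_zero hr' hb), fun f hf hwf => ?_⟩
    obtain ⟨a'', ha''⟩ := claim2 f hf
    have hum : ((u * Units.map (m : H.left.functionField →* E) f : Eˣ) : E) =
        algebraMap (H.left.functionField ⊗[k] H.left.functionField) E
          (jA ρ ((algebraMap R H.left.functionField r ⊗ₜ[k] (1 : B)) * a'')) := by
      have e1 : ((u * Units.map (m : H.left.functionField →* E) f : Eˣ) : E) =
        io ((algebraMap R H.left.functionField r ⊗ₜ[k] (1 : B)) * b) * m f := rfl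
      rw [e1, ← hioj, map_mul, map_mul, mul_assoc, ha'']
    have hvm : 1 ≤ v (u * Units.map (m : H.left.functionField →* E) f) := by
      rw [v.map_mul]
      exact one_le_mul hu1 hwf
    obtain ⟨t₁, ht₁⟩ := hv3 _ _ hum hvm
    obtain ⟨g, hg⟩ := LinearMap.exists_leftInverse_of_injective ρ.toLinearMap (LinearMap.ker_eq_bot.2 hρ)
    have hl : ∀ y, (ε.toLinearMap ∘ₗ g) (ρ y) = ε y := by
      intro y
      have := LinearMap.congr_fun hg y
      change ε (g (ρ y)) = ε y
      congr 1
    refine ⟨ev R (ε.toLinearMap ∘ₗ g) t₁, ?_⟩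
    rw [← ev_incl, ht₁, ev_jA ε ρ _ hl, hsmul, ← key1 b a'' f ha'', Units.val_mk0]
    ring

include hF zB ε ρ in
theorem exists_w [IsAlgClosed k] [CompactSpace H.left] [Algebra.FiniteType k B] (hε : pm ε ≫ zB = 1)
    (hρz : pm ρ ≫ zB = gp hF) (hρ : Function.Injective ρ) :
    ∃ w : H.left.functionFieldˣ →* Multiplicative ℤ,
      (∀ (x : 𝟙_ (Over (Spec (CommRingCat.of k))) ⟶ H) (f : H.left.functionFieldˣ), w (ta x f) = w f) ∧
      ∀ D : Dvs H.left, (∀ p : H.left, ∃ (U : H.left.Opens) (φ : H.left.functionFieldˣ), p ∈ U ∧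
          ∀ q ∈ U, D q = QuotientGroup.mk φ) →
        ∃ c : H.left.functionFieldˣ, ∀ f : H.left.functionFieldˣ,
          (∀ q : H.left, ∃ φ : H.left.functionFieldˣ, (φ : H.left.functionField) ∈ O H.left q ∧
            (dv f * D) q = QuotientGroup.mk φ) →
          1 ≤ w f → ∃ r : R, algebraMap R H.left.functionField r = c * f := by
  have hS : IsDomain (H.left.functionField ⊗[k] H.left.functionField) :=
    Groth.Agent.Fdesc.TensorDomain.isDomain_tensorProduct
  exact exists_w_aux hF zB ε ρ (FractionRing (H.left.functionField ⊗[k] H.left.functionField)) R hε hρz hρ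

end Core

end Groth.Agent.Sga7.H741.Gauss
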