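import Groth.Agent.Fdesc.TensorDomain
import Mathlib.RingTheory.DiscreteValuationRing.Basic
import Mathlib.LinearAlgebra.TensorProduct.RightExactness
import Mathlib.RingTheory.Multiplicity
import Mathlib.RingTheory.Localization.FractionRing

/-!
# Gauss valuation of `Frac (F ⊗ K)` attached to a discrete valuation ring `R` of `F`
-/

set_option autoImplicit false
universe u

open TensorProduct

namespace Groth.Agent.Sga7.H741.GaussAlg

section Ord

variable {T E : Type*} [CommRing T] [IsDomain T] [Field E] {π : T}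

/-- The order homomorphism attached to a prime element. -/
theorem exists_ord (f : T →+* E) (hf : Function.Injective f)
    (hs : ∀ u : E, ∃ a b : T, b ≠ 0 ∧ u * f b = f a) (hp : Prime π)
    (hfin : ∀ t : T, t ≠ 0 → FiniteMultiplicity π t) :
    ∃ v : Eˣ →* Multiplicative ℤ, ∀ (u : Eˣ) (a b : T), a ≠ 0 → b ≠ 0 → (u : E) * f b = f a →
      v u = Multiplicative.ofAdd ((multiplicity π a : ℤ) - (multiplicity π b : ℤ)) := by
  have hmul : ∀ a b : T, a ≠ 0 → b ≠ 0 → multiplicity π (a * b) = multiplicity π a + multiplicity π b :=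
    fun a b ha hb => multiplicity_mul hp (hfin _ (mul_ne_zero ha hb))
  have key : ∀ (u : Eˣ) (a b a' b' : T), a ≠ 0 → b ≠ 0 → a' ≠ 0 → b' ≠ 0 → (u : E) * f b = f a →
      (u : E) * f b' = f a' →
      (multiplicity π a : ℤ) - (multiplicity π b : ℤ) = (multiplicity π a' : ℤ) - (multiplicity π b' : ℤ) := by
    intro u a b a' b' ha hb ha' hb' h h'
    have h1 : a * b' = a' * b := by
      apply hf
      rw [map_mul, map_mul, ← h, ← h']
      ring
    have h2 := congrArg (multiplicity π) h1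
    rw [hmul a b' ha hb', hmul a' b ha' hb] at h2
    have h3 : (multiplicity π a : ℤ) + (multiplicity π b' : ℤ) = (multiplicity π a' : ℤ) + (multiplicity π b : ℤ) := by
      exact_mod_cast h2
    linarith
  have hne : ∀ (u : Eˣ) (a b : T), b ≠ 0 → (u : E) * f b = f a → a ≠ 0 := by
    intro u a b hb h ha
    rw [ha, map_zero] at h
    rcases mul_eq_zero.1 h with h | h
    · exact u.ne_zero h
    · exact hb (hf (by rw [h, map_zero]))
  choose num den hden hnd using hs
  refine ⟨MonoidHom.mk' (fun u : Eˣ => Multiplicative.ofAdd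
    ((multiplicity π (num (u : E)) : ℤ) - (multiplicity π (den (u : E)) : ℤ))) ?_, ?_⟩
  · intro u w
    rw [← ofAdd_add]
    congr 1
    have hu := hne u _ _ (hden (u : E)) (hnd (u : E))
    have hw := hne w _ _ (hden (w : E)) (hnd (w : E))
    have huw := hne (u * w) _ _ (hden ((u * w : Eˣ) : E)) (hnd ((u * w : Eˣ) : E))
    have h := key (u * w) _ _ (num (u : E) * num (w : E)) (den (u : E) * den (w : E)) huw
      (hden ((u * w : Eˣ) : E)) (mul_ne_zero hu hw) (mul_ne_zero (hden _) (hden _))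
      (hnd ((u * w : Eˣ) : E)) (by
        rw [map_mul, map_mul, ← hnd (u : E), ← hnd (w : E), Units.val_mul]
        ring)
    rw [h, hmul _ _ hu hw, hmul _ _ (hden _) (hden _)]
    push_cast
    ring
  · intro u a b ha hb h
    change Multiplicative.ofAdd _ = _
    congr 1
    exact key u _ _ a b (hne u _ _ (hden _) (hnd _)) (hden _) ha hb (hnd _) h

end Ord

section Gauss

variable {k R F K : Type*} [Field k] [IsAlgClosed k] [CommRing R] [IsDomain R]
  [IsDiscreteValuationRing R] [Algebra k R] [Field F] [Algebra R F] [IsFractionRing R F]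
  [Algebra k F] [IsScalarTower k R F] [Field K] [Algebra k K]

variable (k R F K) in
/-- `R ⊗ K → F ⊗ K` -/
noncomputable def incl : R ⊗[k] K →ₐ[k] F ⊗[k] K :=
  Algebra.TensorProduct.map (IsScalarTower.toAlgHom k R F) (AlgHom.id k K)

omit [IsAlgClosed k] [IsDomain R] [IsDiscreteValuationRing R] [IsFractionRing R F] in
@[simp] lemma incl_tmul (r : R) (x : K) : incl k R F K (r ⊗ₜ x) = algebraMap R F r ⊗ₜ x := by
  simp [incl]

omit [IsAlgClosed k] [IsDomain R] [IsDiscreteValuationRing R] in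
lemma incl_injective : Function.Injective (incl k R F K) := by
  have h : Function.Injective (IsScalarTower.toAlgHom k R F).toLinearMap := IsFractionRing.injective R F
  have := Module.Flat.rTensor_preserves_injective_linearMap (M := K) (IsScalarTower.toAlgHom k R F).toLinearMap h
  exact this

omit [IsAlgClosed k] [IsDiscreteValuationRing R] in
/-- common denominators -/
lemma exists_den (s : F ⊗[k] K) : ∃ r : R, r ≠ 0 ∧ ∃ t : R ⊗[k] K,
    incl k R F K t = (algebraMap R F r ⊗ₜ 1) * s := by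
  induction s using TensorProduct.induction_on with
  | zero => exact ⟨1, one_ne_zero, 0, by simp⟩
  | tmul a x =>
    obtain ⟨r, d, hd, rfl⟩ := IsFractionRing.div_surjective (A := R) a
    refine ⟨d, nonZeroDivisors.ne_zero hd, r ⊗ₜ x, ?_⟩
    rw [incl_tmul, Algebra.TensorProduct.tmul_mul_tmul, one_mul, mul_div_cancel₀]
    exact fun h => nonZeroDivisors.ne_zero hd ((map_eq_zero_iff _ (IsFractionRing.injective R F)).1 h)
  | add x y hx hy =>
    obtain ⟨r, hr, t, ht⟩ := hx
    obtain ⟨r', hr', t', ht'⟩ := hy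
    refine ⟨r * r', mul_ne_zero hr hr', (r' ⊗ₜ 1) * t + (r ⊗ₜ 1) * t', ?_⟩
    rw [map_add, map_mul, map_mul, ht, ht', incl_tmul, incl_tmul, ← mul_assoc, ← mul_assoc,
      Algebra.TensorProduct.tmul_mul_tmul, Algebra.TensorProduct.tmul_mul_tmul, mul_one, map_mul,
      mul_comm (algebraMap R F r'), mul_add]

omit [IsDomain R] [IsDiscreteValuationRing R] in
lemma prime_tmul {π : R} (hπ : Prime π) : Prime (π ⊗ₜ[k] (1 : K) : R ⊗[k] K) := by
  have hI : (Ideal.span {π} : Ideal R).IsPrime := (Ideal.span_singleton_prime hπ.ne_zero).2 hπ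
  have hdom : IsDomain (R ⧸ Ideal.span {π}) := Ideal.Quotient.isDomain _
  have hd2 : IsDomain ((R ⧸ Ideal.span {π}) ⊗[k] K) := Groth.Agent.Fdesc.TensorDomain.isDomain_tensorProduct
  have hker := Algebra.TensorProduct.rTensor_ker (R := k) (C := K) (Ideal.Quotient.mkₐ k (Ideal.span {π}))
    (Ideal.Quotient.mkₐ_surjective k _)
  have hk : RingHom.ker (Ideal.Quotient.mkₐ k (Ideal.span {π})) = Ideal.span {π} := by
    ext x
    rw [RingHom.mem_ker]
    exact Ideal.Quotient.eq_zero_iff_mem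
  rw [hk, Ideal.map_span, Set.image_singleton] at hker
  have hne : (π ⊗ₜ[k] (1 : K) : R ⊗[k] K) ≠ 0 := by
    intro h
    have h1 := Algebra.TensorProduct.includeLeft_injective (R := k) (S := k) (A := R) (B := K)
      (algebraMap k K).injective
    exact hπ.ne_zero (h1 (by
      change (π ⊗ₜ[k] (1 : K) : R ⊗[k] K) = (0 : R) ⊗ₜ 1
      rw [h, TensorProduct.zero_tmul]))
  have hprime := RingHom.ker_isPrime (Algebra.TensorProduct.map (Ideal.Quotient.mkₐ k (Ideal.span {π})) (AlgHom.id k K))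
  rw [hker] at hprime
  exact (Ideal.span_singleton_prime hne).1 hprime

omit [IsAlgClosed k] in
lemma finiteMultiplicity_tmul {π : R} (hπ : Irreducible π) (t : R ⊗[k] K) (ht : t ≠ 0) :
    FiniteMultiplicity (π ⊗ₜ[k] (1 : K) : R ⊗[k] K) t := by
  classical
  let b := Algebra.TensorProduct.basis R (Module.Basis.ofVectorSpace k K)
  obtain ⟨i, hi⟩ : ∃ i, b.repr t i ≠ 0 := by
    by_contra! h
    exact ht (b.repr.injective (by ext i; rw [h i]; simp))
  have hfm : FiniteMultiplicity π (b.repr t i) :=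
    FiniteMultiplicity.of_not_isUnit hπ.not_isUnit hi
  obtain ⟨n, hn⟩ := hfm
  refine ⟨n, fun ⟨t', ht'⟩ => hn ⟨b.repr t' i, ?_⟩⟩
  have h1 : t = (π ^ (n + 1)) • t' := by
    rw [ht', Algebra.TensorProduct.tmul_pow, one_pow, Algebra.smul_def]
    rfl
  rw [h1, map_smul, Finsupp.smul_apply, smul_eq_mul]

variable (k K) in
/-- `id ⊗ σ` -/
noncomputable def act (A : Type*) [CommRing A] [Algebra k A] (σ : K ≃ₐ[k] K) : A ⊗[k] K ≃ₐ[k] A ⊗[k] K :=
  Algebra.TensorProduct.congr AlgEquiv.refl σ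

omit [IsAlgClosed k] in
@[simp] lemma act_tmul (A : Type*) [CommRing A] [Algebra k A] (σ : K ≃ₐ[k] K) (a : A) (x : K) :
    act k K A σ (a ⊗ₜ x) = a ⊗ₜ σ x := by
  simp [act]

omit [IsAlgClosed k] [IsDomain R] [IsDiscreteValuationRing R] [IsFractionRing R F] in
lemma incl_act (σ : K ≃ₐ[k] K) (t : R ⊗[k] K) : incl k R F K (act k K R σ t) = act k K F σ (incl k R F K t) := by
  induction t using TensorProduct.induction_on with
  | zero => simp
  | tmul a x => simp
  | add x y hx hy => rw [map_add, map_add, hx, hy, map_add, map_add]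

/-- The functional `id ⊗ l` on `A ⊗ K`. -/
noncomputable def ev (A : Type*) [CommRing A] [Algebra k A] (l : K →ₗ[k] k) : A ⊗[k] K →ₗ[A] A :=
  (TensorProduct.AlgebraTensorModule.rid k A A).toLinearMap ∘ₗ l.baseChange A

omit [IsAlgClosed k] in
@[simp] lemma ev_tmul (A : Type*) [CommRing A] [Algebra k A] (l : K →ₗ[k] k) (a : A) (x : K) :
    ev A l (a ⊗ₜ x) = algebraMap k A (l x) * a := by
  simp [ev, Algebra.smul_def]

omit [IsAlgClosed k] [IsDomain R] [IsDiscreteValuationRing R] [IsFractionRing R F] in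
lemma ev_incl (l : K →ₗ[k] k) (t : R ⊗[k] K) : ev F l (incl k R F K t) = algebraMap R F (ev R l t) := by
  induction t using TensorProduct.induction_on with
  | zero => simp
  | tmul a x => simp [← IsScalarTower.algebraMap_apply k R F]
  | add x y hx hy => rw [map_add, map_add, map_add, map_add, hx, hy]

variable (k R F K) in
/-- **The Gauss valuation**. -/
theorem exists_gaussVal (E : Type*) [Field E] [Algebra (F ⊗[k] K) E] [IsDomain (F ⊗[k] K)]
    [IsFractionRing (F ⊗[k] K) E] :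
    ∃ v : Eˣ →* Multiplicative ℤ,
      (∀ (σ : K ≃ₐ[k] K) (θ : E →* E), (∀ s : F ⊗[k] K, θ (algebraMap (F ⊗[k] K) E s) =
        algebraMap (F ⊗[k] K) E (act k K F σ s)) → ∀ u : Eˣ, v (Units.map θ u) = v u) ∧
      (∀ (t : R ⊗[k] K) (u : Eˣ), (u : E) = algebraMap (F ⊗[k] K) E (incl k R F K t) → 1 ≤ v u) ∧
      (∀ (s : F ⊗[k] K) (u : Eˣ), (u : E) = algebraMap (F ⊗[k] K) E s → 1 ≤ v u →
        ∃ t : R ⊗[k] K, incl k R F K t = s) := by
  obtain ⟨π, hπ⟩ := IsDiscreteValuationRing.exists_irreducible R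
  have hπp : Prime π := hπ.prime
  have hT : IsDomain (R ⊗[k] K) := (incl_injective (k := k) (R := R) (F := F) (K := K)).isDomain (incl k R F K).toRingHom
  have hSE : Function.Injective (algebraMap (F ⊗[k] K) E) := IsFractionRing.injective _ _
  let f : R ⊗[k] K →+* E := (algebraMap (F ⊗[k] K) E).comp (incl k R F K).toRingHom
  have hfa : ∀ t, f t = algebraMap (F ⊗[k] K) E (incl k R F K t) := fun _ => rfl
  have hf : Function.Injective f := hSE.comp incl_injective
  have hr0 : ∀ r : R, r ≠ 0 → (r ⊗ₜ[k] (1 : K) : R ⊗[k] K) ≠ 0 := by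
    intro r hr h
    have h1 := Algebra.TensorProduct.includeLeft_injective (R := k) (S := k) (A := R) (B := K)
      (algebraMap k K).injective
    exact hr (h1 (by
      change (r ⊗ₜ[k] (1 : K) : R ⊗[k] K) = (0 : R) ⊗ₜ 1
      rw [h, TensorProduct.zero_tmul]))
  have hs : ∀ u : E, ∃ a b : R ⊗[k] K, b ≠ 0 ∧ u * f b = f a := by
    intro u
    obtain ⟨s, d, hd, rfl⟩ := IsFractionRing.div_surjective (A := F ⊗[k] K) u
    obtain ⟨r, hr, t, ht⟩ := exists_den (R := R) s
    obtain ⟨r', hr', t', ht'⟩ := exists_den (R := R) d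
    have hd0 := nonZeroDivisors.ne_zero hd
    have hr2 : (algebraMap R F r' ⊗ₜ[k] (1 : K) : F ⊗[k] K) ≠ 0 := by
      rw [← incl_tmul]
      exact fun h => hr0 r' hr' (incl_injective (by rw [h, map_zero]))
    have ht0 : t' ≠ 0 := by
      intro h
      rw [h, map_zero] at ht'
      exact mul_ne_zero hr2 hd0 ht'.symm
    refine ⟨(r' ⊗ₜ 1) * t, (r ⊗ₜ 1) * t', mul_ne_zero (hr0 r hr) ht0, ?_⟩
    have e1 : incl k R F K ((r' ⊗ₜ 1) * t) = (algebraMap R F r' ⊗ₜ 1) * ((algebraMap R F r ⊗ₜ 1) * s) := by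
      rw [map_mul, ht, incl_tmul]
    have e2 : incl k R F K ((r ⊗ₜ 1) * t') = (algebraMap R F r ⊗ₜ 1) * ((algebraMap R F r' ⊗ₜ 1) * d) := by
      rw [map_mul, ht', incl_tmul]
    rw [hfa, hfa, e1, e2, div_mul_eq_mul_div, div_eq_iff (fun h => hd0 (hSE (by rw [h, map_zero]))), ← map_mul,
      ← map_mul]
    congr 1
    ring
  have hpr : Prime (π ⊗ₜ[k] (1 : K) : R ⊗[k] K) := prime_tmul hπp
  obtain ⟨v, hv⟩ := exists_ord f hf hs hpr (fun t ht => finiteMultiplicity_tmul hπ t ht)
  have hne : ∀ (u : Eˣ) (a b : R ⊗[k] K), b ≠ 0 → (u : E) * f b = f a → a ≠ 0 := by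
    intro u a b hb h ha
    rw [ha, map_zero] at h
    rcases mul_eq_zero.1 h with h | h
    · exact u.ne_zero h
    · exact hb (hf (by rw [h, map_zero]))
  have hle : ∀ (n : ℤ), 1 ≤ Multiplicative.ofAdd n ↔ 0 ≤ n := fun n => by
    rw [← ofAdd_zero]
    exact Multiplicative.ofAdd_le
  refine ⟨v, ?_, ?_, ?_⟩
  · intro σ θ hθ u
    obtain ⟨a, b, hb, hab⟩ := hs (u : E)
    have ha := hne u a b hb hab
    have h1 : ∀ t, θ (f t) = f (act k K R σ t) := fun t => by
      rw [hfa, hfa, hθ, incl_act]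
    have hinj : Function.Injective (act k K R σ) := (act k K R σ).injective
    have ha' : act k K R σ a ≠ 0 := fun h => ha (hinj (by rw [h, map_zero]))
    have hb' : act k K R σ b ≠ 0 := fun h => hb (hinj (by rw [h, map_zero]))
    have hm : ∀ t, multiplicity (π ⊗ₜ[k] (1 : K) : R ⊗[k] K) (act k K R σ t) =
        multiplicity (π ⊗ₜ[k] (1 : K) : R ⊗[k] K) t := by
      intro t
      have h2 : (act k K R σ) (π ⊗ₜ 1) = π ⊗ₜ 1 := by rw [act_tmul, map_one]
      have h3 := multiplicity_map_eq (act k K R σ) (a := (π ⊗ₜ[k] (1 : K) : R ⊗[k] K)) (b := t)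
      rwa [h2] at h3
    rw [hv (Units.map θ u) (act k K R σ a) (act k K R σ b) ha' hb' (by
      rw [← h1, ← h1, ← hab, map_mul]; rfl), hv u a b ha hb hab, hm, hm]
  · intro t u hu
    have ht : t ≠ 0 := by
      rintro rfl
      rw [map_zero, map_zero] at hu
      exact u.ne_zero hu
    rw [hv u t 1 ht one_ne_zero (by rw [map_one, mul_one, hu, hfa])]
    rw [hle, multiplicity_of_isUnit_right hpr.not_isUnit isUnit_one]
    simp
  · intro s u hu h1
    have hs0 : s ≠ 0 := by
      rintro rfl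
      rw [map_zero] at hu
      exact u.ne_zero hu
    obtain ⟨r, hr, t, ht⟩ := exists_den (R := R) s
    obtain ⟨n, c, hc⟩ := IsDiscreteValuationRing.associated_pow_irreducible hr hπ
    -- `r * c = π ^ n`
    have ht2 : incl k R F K ((((c : Rˣ) : R) ⊗ₜ 1) * t) = incl k R F K ((π ⊗ₜ 1) ^ n) * s := by
      rw [map_mul, ht, incl_tmul, ← mul_assoc, Algebra.TensorProduct.tmul_mul_tmul, ← map_mul,
        mul_comm (c : R) r, hc, Algebra.TensorProduct.tmul_pow, incl_tmul, one_pow, mul_one]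
    have hb : ((π ⊗ₜ[k] (1 : K) : R ⊗[k] K)) ^ n ≠ 0 := pow_ne_zero _ hpr.ne_zero
    have hut : (u : E) * f ((π ⊗ₜ 1) ^ n) = f ((((c : Rˣ) : R) ⊗ₜ 1) * t) := by
      rw [hfa, hfa, ht2, map_mul, hu, mul_comm]
    have ha := hne u _ _ hb hut
    rw [hv u _ _ ha hb hut, hle] at h1
    have hmp : multiplicity (π ⊗ₜ[k] (1 : K) : R ⊗[k] K) ((π ⊗ₜ[k] (1 : K) : R ⊗[k] K) ^ n) = n :=
      multiplicity_pow_self_of_prime hpr n
    rw [hmp] at h1
    have h2 : n ≤ multiplicity (π ⊗ₜ[k] (1 : K) : R ⊗[k] K) ((((c : Rˣ) : R) ⊗ₜ 1) * t) := by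
      omega
    obtain ⟨t', ht'⟩ := pow_dvd_of_le_multiplicity h2
    refine ⟨t', ?_⟩
    rw [ht', map_mul] at ht2
    exact mul_left_cancel₀ (fun h => hb (incl_injective (by rw [h, map_zero]))) ht2

end Gauss

end Groth.Agent.Sga7.H741.GaussAlg
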