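import Groth.Agent.Sga7.H741.Slope
import Mathlib.RingTheory.AlgebraicIndependent.Basic

/-!
# The largest bad slope is at least one
-/

set_option autoImplicit false

universe u

open CategoryTheory AlgebraicGeometry Limits MonObj PowerSeries

namespace Groth.Agent.Sga7.H741.GoodMul

open Groth.Agent.Models.WeilPts Groth.Agent.Sga7.H741.Newton Groth.Agent.Sga7.H741.Eval
  Groth.Agent.Sga7.H741.Chart Groth.Agent.Sga7.H741.Arc Groth.Agent.Sga7.H741.Val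
  Groth.Agent.Sga7.H741.Slope

lemma exists_min_iwt {k : Type u} [Field k] (Q : MvPowerSeries (Fin 2) k) (hQ : ∃ m, m ∈ supp Q)
    (q p : ℕ) : ∃ n, (∀ e ∈ supp Q, n ≤ iwt q p e) ∧ ∃ e ∈ supp Q, iwt q p e = n := by
  classical
  obtain ⟨m, hm⟩ := hQ
  have hex : ∃ n, ∃ v ∈ supp Q, iwt q p v = n := ⟨_, m, hm, rfl⟩
  exact ⟨Nat.find hex, fun v hv => Nat.find_min' hex ⟨v, hv, rfl⟩, Nat.find_spec hex⟩

section transc

variable {k : Type u} [Field k] {K : Type u} [Field K] [Algebra k K]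

lemma transcendental_left {t s : K} (h : AlgebraicIndependent k ![t, s]) : Transcendental k t :=
  h.transcendental 0

lemma transcendental_right {t s : K} (h : AlgebraicIndependent k ![t, s]) : Transcendental k s :=
  h.transcendental 1

/-- A polynomial expression in `t`, `s` which is a nonconstant polynomial is transcendental. -/
lemma transcendental_aeval {t s : K} (h : AlgebraicIndependent k ![t, s])
    (p : MvPolynomial (Fin 2) k) (hp : Transcendental k p) :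
    Transcendental k (MvPolynomial.aeval ![t, s] p) :=
  fun h1 => hp ((isAlgebraic_algHom_iff (MvPolynomial.aeval ![t, s]) h).1 h1)

end transc

section main

variable {k : Type u} [Field k]
  {F : Type u} [Field F] [Algebra k F] [Algebra k⟦X⟧ F]
  [IsScalarTower k k⟦X⟧ F] [IsFractionRing k⟦X⟧ F]
  {G : Over (Spec (CommRingCat.of k))} [GrpObj G] {c : UnitChart G}

/-- The union of the supports. -/
def SP (P : Fin c.r → MvPowerSeries (Fin 2) k) : Set Ex := {u | ∃ i, u ∈ supp (P i)}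

lemma good_iff {P : Fin c.r → MvPowerSeries (Fin 2) k} {Q : MvPowerSeries (Fin 2) k}
    {q p n : ℕ} (hq : 0 < q) (hn : ∀ e ∈ supp Q, n ≤ iwt q p e) (hn' : ∃ e ∈ supp Q, iwt q p e = n) :
    Good (SP P) (supp Q) ((p : ℚ) / q) ↔ ∀ i, ∀ e ∈ supp (P i), n < iwt q p e := by
  constructor
  · intro h i e he
    obtain ⟨v, hv, hlt⟩ := h e ⟨i, he⟩
    rw [← iwt_lt_iff q p hq] at hlt
    exact (hn v hv).trans_lt hlt
  · rintro h u ⟨i, hu⟩
    obtain ⟨v, hv, hvn⟩ := hn'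
    refine ⟨v, hv, ?_⟩
    rw [← iwt_lt_iff q p hq, hvn]
    exact h i u hu

lemma Coords.good_mul {f : SpecO k F ⟶ G} {P : Fin c.r → MvPowerSeries (Fin 2) k}
    {Q : MvPowerSeries (Fin 2) k} (H : Coords c f P Q) {q₁ p₁ q₂ p₂ : ℕ} (hp₁ : 0 < p₁) (hp₂ : 0 < p₂)
    (h₁ : p₁ < q₁) (h₂ : p₂ < q₂) (g₁ : Good (SP P) (supp Q) ((p₁ : ℚ) / q₁))
    (g₂ : Good (SP P) (supp Q) ((p₂ : ℚ) / q₂)) :
    Good (SP P) (supp Q) ((p₁ : ℚ) / q₁ * ((p₂ : ℚ) / q₂)) := by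
  have hq₁ : 0 < q₁ := hp₁.trans h₁
  have hq₂ : 0 < q₂ := hp₂.trans h₂
  have hQ : ∃ m, m ∈ supp Q := by
    obtain ⟨m, hm, -⟩ := H.exists_zero; exact ⟨m, hm⟩
  let K := FractionRing (MvPolynomial (Fin 2) k)
  let a : K := algebraMap (MvPolynomial (Fin 2) k) K (MvPolynomial.X 0)
  let b : K := algebraMap (MvPolynomial (Fin 2) k) K (MvPolynomial.X 1)
  have hab : AlgebraicIndependent k ![a, b] := by
    have h0 := (MvPolynomial.algebraicIndependent_X (Fin 2) k).map'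
      (f := IsScalarTower.toAlgHom k (MvPolynomial (Fin 2) k) K) (IsFractionRing.injective _ _)
    have h1 : (IsScalarTower.toAlgHom k (MvPolynomial (Fin 2) k) K) ∘ MvPolynomial.X = ![a, b] := by
      funext i
      fin_cases i <;> rfl
    rw [h1] at h0
    exact h0
  have ha : Transcendental k a := transcendental_left hab
  have hb : Transcendental k b := transcendental_right hab
  have ha0 : a ≠ 0 := by
    intro h; apply ha; rw [h]; exact isAlgebraic_zero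
  have hb0 : b ≠ 0 := by
    intro h; apply hb; rw [h]; exact isAlgebraic_zero
  have hX : ∀ n : ℕ, (X ^ n : K⟦X⟧) ≠ 0 := fun n => pow_ne_zero _ PowerSeries.X_ne_zero
  have hC : ∀ {x : K}, x ≠ 0 → (C x : K⟦X⟧) ≠ 0 := by
    intro x hx h
    apply hx
    have := congrArg constantCoeff h
    rwa [constantCoeff_C, map_zero] at this
  have hX0 : ∀ {n : ℕ}, 0 < n → ∀ r : K⟦X⟧, constantCoeff (X ^ n * r) = 0 := by
    intro n hn r
    rw [map_mul, map_pow, constantCoeff_X, zero_pow hn.ne', zero_mul]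
  -- the three arcs
  let t₀ : K⟦X⟧ := X ^ (q₁ * q₂) * 1
  let t₁ : K⟦X⟧ := X ^ (p₁ * q₂) * C a
  let t₂ : K⟦X⟧ := X ^ (p₁ * p₂) * C b
  have ht₀ : constantCoeff t₀ = 0 := hX0 (Nat.mul_pos hq₁ hq₂) _
  have ht₁ : constantCoeff t₁ = 0 := hX0 (Nat.mul_pos hp₁ hq₂) _
  have ht₂ : constantCoeff t₂ = 0 := hX0 (Nat.mul_pos hp₁ hp₂) _
  have ht₀' : t₀ ≠ 0 := mul_ne_zero (hX _) one_ne_zero
  have ht₁' : t₁ ≠ 0 := mul_ne_zero (hX _) (hC ha0)
  have ht₂' : t₂ ≠ 0 := mul_ne_zero (hX _) (hC hb0)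
  -- exponents
  have e₀₁ : p₁ * q₂ + (q₁ - p₁) * q₂ = q₁ * q₂ := by
    rw [← add_mul]; congr 1; omega
  have e₁₂ : p₁ * p₂ + p₁ * (q₂ - p₂) = p₁ * q₂ := by
    rw [← mul_add]; congr 1; omega
  have hlt : p₁ * p₂ < q₁ * q₂ := Nat.mul_lt_mul_of_lt_of_lt h₁ h₂
  -- the differences
  let d₀₁ : K⟦X⟧ := C a - X ^ ((q₁ - p₁) * q₂) * 1
  let d₁₂ : K⟦X⟧ := C b - X ^ (p₁ * (q₂ - p₂)) * C a
  let d₀₂ : K⟦X⟧ := C b - X ^ (q₁ * q₂ - p₁ * p₂) * 1
  have hd₀₁ : constantCoeff d₀₁ = a := by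
    rw [map_sub, hX0 (Nat.mul_pos (by omega) hq₂), constantCoeff_C, sub_zero]
  have hd₁₂ : constantCoeff d₁₂ = b := by
    rw [map_sub, hX0 (Nat.mul_pos hp₁ (by omega)), constantCoeff_C, sub_zero]
  have hd₀₂ : constantCoeff d₀₂ = b := by
    rw [map_sub, hX0 (by omega), constantCoeff_C, sub_zero]
  have s₀₁ : X ^ (q₁ * q₂) * 1 + X ^ (p₁ * q₂) * d₀₁ = t₁ := by
    simp only [d₀₁, t₁]
    rw [mul_sub, ← _root_.mul_assoc (X ^ (p₁ * q₂)) (X ^ ((q₁ - p₁) * q₂)), ← pow_add, e₀₁]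
    ring
  have s₁₂ : X ^ (p₁ * q₂) * C a + X ^ (p₁ * p₂) * d₁₂ = t₂ := by
    simp only [d₁₂, t₂]
    rw [mul_sub, ← _root_.mul_assoc (X ^ (p₁ * p₂)) (X ^ (p₁ * (q₂ - p₂))), ← pow_add, e₁₂]
    ring
  have s₀₂ : X ^ (q₁ * q₂) * 1 + X ^ (p₁ * p₂) * d₀₂ = t₂ := by
    simp only [d₀₂, t₂]
    rw [mul_sub, ← _root_.mul_assoc (X ^ (p₁ * p₂)) (X ^ (q₁ * q₂ - p₁ * p₂)), ← pow_add,
      Nat.add_sub_cancel' hlt.le]
    ring
  have diff_congr : ∀ (s x y : K⟦X⟧) (hs) (hs0) (hx) (hx0) (hy) (hy0), x = y →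
      diff f s x hs hs0 hx hx0 = diff f s y hs hs0 hy hy0 := by
    intro s x y hs hs0 hx hx0 hy hy0 hxy
    subst hxy
    rfl
  -- first difference
  have sm₀₁ : IsSmall (diff f t₀ t₁ ht₀ ht₀' ht₁ ht₁') := by
    obtain ⟨n, hn, hn'⟩ := exists_min_iwt Q hQ (q₁ * q₂) (p₁ * q₂)
    have hg : Good (SP P) (supp Q) (((p₁ * q₂ : ℕ) : ℚ) / ((q₁ * q₂ : ℕ) : ℚ)) := by
      have : ((p₁ * q₂ : ℕ) : ℚ) / ((q₁ * q₂ : ℕ) : ℚ) = (p₁ : ℚ) / q₁ := by
        push_cast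
        rw [mul_div_mul_right]
        exact_mod_cast hq₂.ne'
      rw [this]; exact g₁
    rw [good_iff (Nat.mul_pos hq₁ hq₂) hn hn'] at hg
    have h := H.isSmall (Nat.mul_pos hq₁ hq₂) (Nat.mul_pos hp₁ hq₂) hn hg 1 d₀₁ ht₀ ht₀'
      (by rw [s₀₁]; exact ht₁) (by rw [s₀₁]; exact ht₁') (by
        rw [hd₀₁, map_one]
        obtain ⟨e, he, hen⟩ := hn'
        exact lead_one_ne_zero (Nat.mul_pos hq₁ hq₂) (Nat.mul_pos hp₁ hq₂) Q n hen he ha)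
    rw [diff_congr _ _ t₁ _ _ _ _ ht₁ ht₁' s₀₁] at h
    exact h
  have sm₁₂ : IsSmall (diff f t₁ t₂ ht₁ ht₁' ht₂ ht₂') := by
    obtain ⟨n, hn, hn'⟩ := exists_min_iwt Q hQ (p₁ * q₂) (p₁ * p₂)
    have hg : Good (SP P) (supp Q) (((p₁ * p₂ : ℕ) : ℚ) / ((p₁ * q₂ : ℕ) : ℚ)) := by
      have : ((p₁ * p₂ : ℕ) : ℚ) / ((p₁ * q₂ : ℕ) : ℚ) = (p₂ : ℚ) / q₂ := by
        push_cast
        rw [mul_div_mul_left]
        exact_mod_cast hp₁.ne'
      rw [this]; exact g₂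
    rw [good_iff (Nat.mul_pos hp₁ hq₂) hn hn'] at hg
    have h := H.isSmall (Nat.mul_pos hp₁ hq₂) (Nat.mul_pos hp₁ hp₂) hn hg (C a) d₁₂ ht₁ ht₁'
      (by rw [s₁₂]; exact ht₂) (by rw [s₁₂]; exact ht₂') (by
        rw [hd₁₂, constantCoeff_C]
        obtain ⟨e, he, hen⟩ := hn'
        exact lead_ne_zero_of_algebraicIndependent (Nat.mul_pos hp₁ hq₂) (Nat.mul_pos hp₁ hp₂)
          Q n hen he hab)
    rw [diff_congr _ _ t₂ _ _ _ _ ht₂ ht₂' s₁₂] at h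
    exact h
  have sm₀₂ : IsSmall (diff f t₀ t₂ ht₀ ht₀' ht₂ ht₂') := by
    rw [← diff_mul f t₀ t₁ t₂ ht₀ ht₀' ht₁ ht₁' ht₂ ht₂']
    exact sm₁₂.mul sm₀₁
  obtain ⟨n, hn, hn'⟩ := exists_min_iwt Q hQ (q₁ * q₂) (p₁ * p₂)
  have hfin : Good (SP P) (supp Q) (((p₁ * p₂ : ℕ) : ℚ) / ((q₁ * q₂ : ℕ) : ℚ)) := by
    rw [good_iff (Nat.mul_pos hq₁ hq₂) hn hn']
    rw [← diff_congr _ _ t₂ _ _ (by rw [s₀₂]; exact ht₂) (by rw [s₀₂]; exact ht₂') ht₂ ht₂' s₀₂]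
      at sm₀₂
    have hgen : ∀ (R : MvPowerSeries (Fin 2) k) (m : ℕ),
        (∃ e ∈ supp R, iwt (q₁ * q₂) (p₁ * p₂) e = m) →
        lead R (q₁ * q₂) (p₁ * p₂) m (constantCoeff (1 : K⟦X⟧)) (constantCoeff d₀₂) ≠ 0 := by
      rintro R m ⟨e, he, hem⟩
      rw [hd₀₂, map_one]
      exact lead_one_ne_zero (Nat.mul_pos hq₁ hq₂) (Nat.mul_pos hp₁ hp₂) R m hem he hb
    exact H.lt_of_isSmall (Nat.mul_pos hq₁ hq₂) (Nat.mul_pos hp₁ hp₂) hn 1 d₀₂ ht₀ ht₀'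
      (by rw [s₀₂]; exact ht₂) (by rw [s₀₂]; exact ht₂') (hgen Q n hn') hgen sm₀₂
  have : ((p₁ * p₂ : ℕ) : ℚ) / ((q₁ * q₂ : ℕ) : ℚ) = (p₁ : ℚ) / q₁ * ((p₂ : ℚ) / q₂) := by
    push_cast
    rw [div_mul_div_comm]
  rw [← this]
  exact hfin

/-- Rational form of `Coords.good_mul`. -/
lemma Coords.good_mul' {f : SpecO k F ⟶ G} {P : Fin c.r → MvPowerSeries (Fin 2) k}
    {Q : MvPowerSeries (Fin 2) k} (H : Coords c f P Q) {l₁ l₂ : ℚ} (h₁ : 0 < l₁) (h₁' : l₁ < 1)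
    (h₂ : 0 < l₂) (h₂' : l₂ < 1) (g₁ : Good (SP P) (supp Q) l₁) (g₂ : Good (SP P) (supp Q) l₂) :
    Good (SP P) (supp Q) (l₁ * l₂) := by
  have key : ∀ l : ℚ, 0 < l → l < 1 → ∃ p q : ℕ, 0 < p ∧ p < q ∧ l = (p : ℚ) / q := by
    intro l hl hl'
    have hn : 0 < l.num := Rat.num_pos.2 hl
    refine ⟨l.num.toNat, l.den, by omega, ?_, ?_⟩
    · have : l.num < l.den := by
        have h3 := Rat.num_div_den l
        have hden : (0 : ℚ) < l.den := by exact_mod_cast l.den_pos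
        have h4 : (l.num : ℚ) < l.den := by
          rw [← h3, div_lt_one hden] at hl'
          exact hl'
        exact_mod_cast h4
      omega
    · have h5 : ((l.num.toNat : ℕ) : ℚ) = (l.num : ℚ) := by
        have : ((l.num.toNat : ℕ) : ℤ) = l.num := Int.toNat_of_nonneg hn.le
        exact_mod_cast this
      rw [h5, Rat.num_div_den]
  obtain ⟨p₁, q₁, a1, a2, rfl⟩ := key l₁ h₁ h₁'
  obtain ⟨p₂, q₂, b1, b2, rfl⟩ := key l₂ h₂ h₂'
  exact Coords.good_mul H a1 b1 a2 b2 g₁ g₂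

/-- If the arc does not extend there is a largest bad slope, and it is at least one. -/
lemma Coords.exists_critical {f : SpecO k F ⟶ G} {P : Fin c.r → MvPowerSeries (Fin 2) k}
    {Q : MvPowerSeries (Fin 2) k} (H : Coords c f P Q)
    (hf : ¬ ∃ f' : SpecO k k⟦X⟧ ⟶ G, specMap (IsScalarTower.toAlgHom k k⟦X⟧ F) ≫ f' = f) :
    ∃ l : ℚ, 1 ≤ l ∧ ¬ Good (SP P) (supp Q) l ∧ ∀ l' : ℚ, l < l' → Good (SP P) (supp Q) l' := by
  obtain ⟨m, hm, hm1⟩ := H.exists_zero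
  have hQ : Q ≠ 0 := by
    rintro rfl
    exact hm (map_zero _)
  have hng : ∃ l₁ : ℚ, 0 < l₁ ∧ ¬ Good (SP P) (supp Q) l₁ := by
    by_contra hcon
    push Not at hcon
    apply hf
    refine exists_extension_of_ord c f P Q hQ H.eval ?_
    intro i u hu
    exact exists_le_of_forall_good hcon ⟨i, hu⟩
  obtain ⟨l₁, hl₁, hng⟩ := hng
  obtain ⟨l, hl, hl', hl''⟩ := Newton.exists_critical (SP := SP P) hm hm1
    (by rintro u ⟨i, hu⟩; exact H.one_le i u hu) hl₁ hng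
  refine ⟨l, ?_, hl', hl''⟩
  by_contra hcon
  push Not at hcon
  have hl0 : 0 < l := hl₁.trans_le hl
  let l₂ : ℚ := (l + 1) / 2
  have h2 : l < l₂ := by simp only [l₂]; linarith
  have h2' : l₂ < 1 := by simp only [l₂]; linarith
  have h20 : 0 < l₂ := hl0.trans h2
  have h3 : l < l / l₂ := by
    rw [lt_div_iff₀ h20]
    nlinarith
  have h3' : l / l₂ < 1 := by
    rw [div_lt_one h20]; exact h2
  apply hl'
  have h4 := Coords.good_mul' H h20 h2' (hl0.trans h3) h3' (hl'' _ h2) (hl'' _ h3)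
  have h5 : l₂ * (l / l₂) = l := by field_simp
  rwa [h5] at h4

end main

end Groth.Agent.Sga7.H741.GoodMul
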