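import Groth.Agent.Sga7.H741.Val

/-!
# Reduction of differences of arcs at a given slope
-/

set_option autoImplicit false

universe u

open CategoryTheory AlgebraicGeometry Limits MonObj PowerSeries

namespace Groth.Agent.Sga7.H741.Slope

open Groth.Agent.Models.WeilPts Groth.Agent.Sga7.H741.Newton Groth.Agent.Sga7.H741.Eval
  Groth.Agent.Sga7.H741.Chart Groth.Agent.Sga7.H741.Arc Groth.Agent.Sga7.H741.Val

section defs

variable (k : Type u) [Field k] (K : Type u) [Field K] [Algebra k K]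

/-- The inclusion of `K[[X]]` in its fraction field. -/
noncomputable def toFrac : K⟦X⟧ →ₐ[k] FractionRing K⟦X⟧ :=
  IsScalarTower.toAlgHom k K⟦X⟧ (FractionRing K⟦X⟧)

lemma toFrac_injective : Function.Injective (toFrac k K) :=
  IsFractionRing.injective K⟦X⟧ (FractionRing K⟦X⟧)

/-- The constant coefficient. -/
noncomputable def cc : K⟦X⟧ →ₐ[k] K :=
  { constantCoeff with
    commutes' := fun r => by
      change constantCoeff (algebraMap k K⟦X⟧ r) = _
      rw [PowerSeries.algebraMap_apply, constantCoeff_C] }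

lemma cc_apply (s : K⟦X⟧) : cc k K s = constantCoeff s := rfl

variable {k K}

lemma isUnit_toFrac {s : K⟦X⟧} (hs0 : s ≠ 0) : IsUnit (toFrac k K s) := by
  refine IsUnit.mk0 _ ?_
  intro h
  exact hs0 (toFrac_injective k K (by rw [map_zero]; exact h))

variable (F : Type u) [Field F] [Algebra k F] [Algebra k⟦X⟧ F]
  [IsScalarTower k k⟦X⟧ F] [IsFractionRing k⟦X⟧ F]

/-- The homomorphism `k((t)) → K((X))`, `t ↦ s`. -/
noncomputable def arcHom (s : K⟦X⟧) (hs : constantCoeff s = 0) (hs0 : s ≠ 0) :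
    F →ₐ[k] FractionRing K⟦X⟧ :=
  extF F ((toFrac k K).comp (ev1 k s hs)) (by
    rw [AlgHom.comp_apply, ev1_X]; exact isUnit_toFrac hs0)

lemma arcHom_comp (s : K⟦X⟧) (hs : constantCoeff s = 0) (hs0 : s ≠ 0) :
    (arcHom F s hs hs0).comp (IsScalarTower.toAlgHom k k⟦X⟧ F) = (toFrac k K).comp (ev1 k s hs) :=
  extF_comp _ _

variable {F}

/-- Points of `G` with values in `K((X))` which are integral and reduce to the unit. -/
def IsSmall {G : Over (Spec (CommRingCat.of k))} [GrpObj G]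
    (g : SpecO k (FractionRing K⟦X⟧) ⟶ G) : Prop :=
  ∃ g₀ : SpecO k K⟦X⟧ ⟶ G, specMap (toFrac k K) ≫ g₀ = g ∧ specMap (cc k K) ≫ g₀ = 1

lemma IsSmall.mul {G : Over (Spec (CommRingCat.of k))} [GrpObj G]
    {g h : SpecO k (FractionRing K⟦X⟧) ⟶ G} (hg : IsSmall g) (hh : IsSmall h) :
    IsSmall (g * h) := by
  obtain ⟨g₀, h1, h2⟩ := hg
  obtain ⟨h₀, h3, h4⟩ := hh
  refine ⟨g₀ * h₀, ?_, ?_⟩
  · rw [MonObj.comp_mul, h1, h3]
  · rw [MonObj.comp_mul, h2, h4, _root_.mul_one]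

end defs

section main

variable {k : Type u} [Field k] {K : Type u} [Field K] [Algebra k K]
  {F : Type u} [Field F] [Algebra k F] [Algebra k⟦X⟧ F]
  [IsScalarTower k k⟦X⟧ F] [IsFractionRing k⟦X⟧ F]
  {G : Over (Spec (CommRingCat.of k))} [GrpObj G] (c : UnitChart G)

/-- The data produced by `Arc.exists_coords`. -/
structure Coords (f : SpecO k F ⟶ G) (P : Fin c.r → MvPowerSeries (Fin 2) k)
    (Q : MvPowerSeries (Fin 2) k) : Prop where
  one_le : ∀ i, ∀ e ∈ supp (P i), 1 ≤ e 1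
  exists_zero : ∃ m ∈ supp Q, m 1 = 0
  eval : ∀ (L : Type u) [Field L] [Algebra k L] (θ : MvPowerSeries (Fin 2) k →ₐ[k] L), θ Q ≠ 0 →
        ∃ θ₁ θ₂ : F →ₐ[k] L,
          θ₁.comp (IsScalarTower.toAlgHom k k⟦X⟧ F) = θ.comp (phi1 k) ∧
          θ₂.comp (IsScalarTower.toAlgHom k k⟦X⟧ F) = θ.comp (phi2 k) ∧
          ∃ ρ : c.B →ₐ[k] L, (∀ i, θ Q * ρ (c.x i) = θ (P i)) ∧
            specMap ρ ≫ c.j = (specMap θ₂ ≫ f) * (specMap θ₁ ≫ f)⁻¹

/-- The difference of two arcs. -/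
noncomputable def diff (f : SpecO k F ⟶ G) (s s' : K⟦X⟧) (hs : constantCoeff s = 0) (hs0 : s ≠ 0)
    (hs' : constantCoeff s' = 0) (hs0' : s' ≠ 0) : SpecO k (FractionRing K⟦X⟧) ⟶ G :=
  (specMap (arcHom F s' hs' hs0') ≫ f) * (specMap (arcHom F s hs hs0) ≫ f)⁻¹

lemma diff_mul (f : SpecO k F ⟶ G) (s s' s'' : K⟦X⟧) (hs : constantCoeff s = 0) (hs0 : s ≠ 0)
    (hs' : constantCoeff s' = 0) (hs0' : s' ≠ 0) (hs'' : constantCoeff s'' = 0) (hs0'' : s'' ≠ 0) :
    diff f s' s'' hs' hs0' hs'' hs0'' * diff f s s' hs hs0 hs' hs0' =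
      diff f s s'' hs hs0 hs'' hs0'' := by
  simp only [diff]
  group

variable {c}

/-- Evaluation of the coordinates of the difference of arcs. -/
lemma Coords.eval_diff {f : SpecO k F ⟶ G} {P : Fin c.r → MvPowerSeries (Fin 2) k}
    {Q : MvPowerSeries (Fin 2) k} (H : Coords c f P Q) (s d : K⟦X⟧)
    (hs : constantCoeff s = 0) (hd : constantCoeff d = 0) (hs0 : s ≠ 0)
    (hsd : constantCoeff (s + d) = 0) (hsd0 : s + d ≠ 0) (hQ : ev k s d hs hd Q ≠ 0) :
    ∃ ρ : c.B →ₐ[k] FractionRing K⟦X⟧,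
      (∀ i, toFrac k K (ev k s d hs hd Q) * ρ (c.x i) = toFrac k K (ev k s d hs hd (P i))) ∧
      specMap ρ ≫ c.j = diff f s (s + d) hs hs0 hsd hsd0 := by
  obtain ⟨θ₁, θ₂, h1, h2, ρ, h3, h4⟩ := H.eval (FractionRing K⟦X⟧)
    ((toFrac k K).comp (ev k s d hs hd)) (by
      intro h
      exact hQ (toFrac_injective k K (by rw [map_zero]; exact h)))
  refine ⟨ρ, h3, ?_⟩
  have e1 : θ₁ = arcHom F s hs hs0 := by
    apply extF_unique
    rw [h1, arcHom_comp, AlgHom.comp_assoc, ev_comp_phi1]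
  have e2 : θ₂ = arcHom F (s + d) hsd hsd0 := by
    apply extF_unique
    rw [h2, arcHom_comp, AlgHom.comp_assoc, ev_comp_phi2 _ _ _ _ hsd]
  rw [h4, e1, e2, diff]

/-- Reduction at a slope. -/
lemma Coords.exists_reduction {f : SpecO k F ⟶ G} {P : Fin c.r → MvPowerSeries (Fin 2) k}
    {Q : MvPowerSeries (Fin 2) k} (H : Coords c f P Q) {q p n : ℕ} (hq : 0 < q) (hp : 0 < p)
    (hQn : ∀ e ∈ supp Q, n ≤ iwt q p e) (hPn : ∀ i, ∀ e ∈ supp (P i), n ≤ iwt q p e)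
    (s' d' : K⟦X⟧) (hs : constantCoeff (X ^ q * s') = 0) (hd : constantCoeff (X ^ p * d') = 0)
    (hs0 : X ^ q * s' ≠ 0) (hsd : constantCoeff (X ^ q * s' + X ^ p * d') = 0)
    (hsd0 : X ^ q * s' + X ^ p * d' ≠ 0)
    (hlead : lead Q q p n (constantCoeff s') (constantCoeff d') ≠ 0) :
    ∃ (g₀ : SpecO k K⟦X⟧ ⟶ G) (ζ : c.B →ₐ[k] K),
      specMap (toFrac k K) ≫ g₀ = diff f (X ^ q * s') (X ^ q * s' + X ^ p * d') hs hs0 hsd hsd0 ∧
      (∀ i, lead Q q p n (constantCoeff s') (constantCoeff d') * ζ (c.x i) =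
        lead (P i) q p n (constantCoeff s') (constantCoeff d')) ∧
      specMap (cc k K) ≫ g₀ = specMap ζ ≫ c.j := by
  obtain ⟨rQ, hrQ, hrQ'⟩ := exists_lead hq hp s' d' hs hd Q n hQn
  choose rP hrP hrP' using fun i => exists_lead hq hp s' d' hs hd (P i) n (hPn i)
  have hrQ0 : constantCoeff rQ ≠ 0 := by rw [hrQ']; exact hlead
  have hXn : (X ^ n : K⟦X⟧) ≠ 0 := pow_ne_zero _ PowerSeries.X_ne_zero
  have hrQ1 : rQ ≠ 0 := by
    intro h; apply hrQ0; rw [h, map_zero]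
  obtain ⟨ρ, hρ, hρ'⟩ := H.eval_diff (X ^ q * s') (X ^ p * d') hs hd hs0 hsd hsd0 (by
    rw [hrQ]; exact mul_ne_zero hXn hrQ1)
  have hinv : rQ * rQ⁻¹ = 1 := PowerSeries.mul_inv_cancel _ hrQ0
  have hkey : ∀ i, toFrac k K (rP i * rQ⁻¹) = ρ (c.x i) := by
    intro i
    have h1 := hρ i
    rw [hrQ, hrP i, map_mul, map_mul, _root_.mul_assoc] at h1
    have h2 := mul_left_cancel₀ ((isUnit_toFrac (k := k) hXn).ne_zero) h1
    rw [map_mul, ← h2]
    have h3 : toFrac k K rQ * toFrac k K rQ⁻¹ = 1 := by rw [← map_mul, hinv, map_one]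
    calc toFrac k K rQ * ρ (c.x i) * toFrac k K rQ⁻¹
        = (toFrac k K rQ * toFrac k K rQ⁻¹) * ρ (c.x i) := by ring
      _ = ρ (c.x i) := by rw [h3, _root_.one_mul]
  obtain ⟨ρ₀, hρ₀⟩ := exists_comp_eq_of_gen c (toFrac k K) (toFrac_injective k K) ρ
    (fun i => ⟨_, hkey i⟩)
  refine ⟨specMap ρ₀ ≫ c.j, (cc k K).comp ρ₀, ?_, ?_, ?_⟩
  · rw [← Category.assoc, specMap_comp, hρ₀, hρ']
  · intro i
    have h1 : ρ₀ (c.x i) = rP i * rQ⁻¹ := by
      apply toFrac_injective k K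
      rw [hkey i, ← hρ₀]
      rfl
    rw [AlgHom.comp_apply, h1, map_mul, cc_apply, cc_apply, hrP' i, ← hrQ',
      PowerSeries.constantCoeff_inv]
    field_simp
  · rw [← Category.assoc, specMap_comp]

/-- At a good slope, the difference is small. -/
lemma Coords.isSmall {f : SpecO k F ⟶ G} {P : Fin c.r → MvPowerSeries (Fin 2) k}
    {Q : MvPowerSeries (Fin 2) k} (H : Coords c f P Q) {q p n : ℕ} (hq : 0 < q) (hp : 0 < p)
    (hQn : ∀ e ∈ supp Q, n ≤ iwt q p e) (hPn : ∀ i, ∀ e ∈ supp (P i), n < iwt q p e)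
    (s' d' : K⟦X⟧) (hs : constantCoeff (X ^ q * s') = 0)
    (hs0 : X ^ q * s' ≠ 0) (hsd : constantCoeff (X ^ q * s' + X ^ p * d') = 0)
    (hsd0 : X ^ q * s' + X ^ p * d' ≠ 0)
    (hlead : lead Q q p n (constantCoeff s') (constantCoeff d') ≠ 0) :
    IsSmall (diff f (X ^ q * s') (X ^ q * s' + X ^ p * d') hs hs0 hsd hsd0) := by
  have hd : constantCoeff (X ^ p * d') = 0 := by
    rw [map_add, hs, zero_add] at hsd; exact hsd
  obtain ⟨g₀, ζ, h1, h2, h3⟩ := H.exists_reduction hq hp hQn (fun i e he => (hPn i e he).le)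
    s' d' hs hd hs0 hsd hsd0 hlead
  refine ⟨g₀, h1, ?_⟩
  rw [h3, eq_unit_of_gen c ζ ?_, specMap_unit]
  intro i
  have h4 : lead (P i) q p n (constantCoeff s') (constantCoeff d') = 0 := by
    rw [lead]
    refine Finset.sum_eq_zero fun e he => ?_
    rw [mem_wset hq hp] at he
    have : MvPowerSeries.coeff e (P i) = 0 := by
      by_contra h
      exact absurd (hPn i e h) (by omega)
    rw [this, map_zero, zero_mul]
  have h5 := h2 i
  rw [h4] at h5
  exact (mul_eq_zero.1 h5).resolve_left hlead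

/-- Conversely, if the difference is small for generic leading coefficients, the slope is good. -/
lemma Coords.lt_of_isSmall {f : SpecO k F ⟶ G} {P : Fin c.r → MvPowerSeries (Fin 2) k}
    {Q : MvPowerSeries (Fin 2) k} (H : Coords c f P Q) {q p n : ℕ} (hq : 0 < q) (hp : 0 < p)
    (hQn : ∀ e ∈ supp Q, n ≤ iwt q p e)
    (s' d' : K⟦X⟧) (hs : constantCoeff (X ^ q * s') = 0)
    (hs0 : X ^ q * s' ≠ 0) (hsd : constantCoeff (X ^ q * s' + X ^ p * d') = 0)
    (hsd0 : X ^ q * s' + X ^ p * d' ≠ 0)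
    (hlead : lead Q q p n (constantCoeff s') (constantCoeff d') ≠ 0)
    (hgen : ∀ (R : MvPowerSeries (Fin 2) k) (m : ℕ), (∃ e ∈ supp R, iwt q p e = m) →
      lead R q p m (constantCoeff s') (constantCoeff d') ≠ 0)
    (hsm : IsSmall (diff f (X ^ q * s') (X ^ q * s' + X ^ p * d') hs hs0 hsd hsd0)) (i : Fin c.r)
    (e : Ex) (he : e ∈ supp (P i)) : n < iwt q p e := by
  classical
  by_contra hcon
  have hd : constantCoeff (X ^ p * d') = 0 := by
    rw [map_add, hs, zero_add] at hsd; exact hsd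
  -- minimal weight of `P i`
  have hex : ∃ m, ∃ v ∈ supp (P i), iwt q p v = m := ⟨_, e, he, rfl⟩
  obtain ⟨v₀, hv₀, hv₀m⟩ := Nat.find_spec hex
  set m := Nat.find hex with hm
  have hmin : ∀ v ∈ supp (P i), m ≤ iwt q p v := fun v hv => Nat.find_min' hex ⟨v, hv, rfl⟩
  have hmn : m ≤ n := (hmin e he).trans (not_lt.1 hcon)
  obtain ⟨rQ, hrQ, hrQ'⟩ := exists_lead hq hp s' d' hs hd Q n hQn
  obtain ⟨rP, hrP, hrP'⟩ := exists_lead hq hp s' d' hs hd (P i) m hmin
  have hrP0 : constantCoeff rP ≠ 0 := by rw [hrP']; exact hgen _ _ ⟨v₀, hv₀, hv₀m⟩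
  have hrQ0 : constantCoeff rQ ≠ 0 := by rw [hrQ']; exact hlead
  have hXn : (X ^ n : K⟦X⟧) ≠ 0 := pow_ne_zero _ PowerSeries.X_ne_zero
  have hXm : (X ^ m : K⟦X⟧) ≠ 0 := pow_ne_zero _ PowerSeries.X_ne_zero
  have hrQ1 : rQ ≠ 0 := by
    intro h; apply hrQ0; rw [h, map_zero]
  obtain ⟨ρ, hρ, hρ'⟩ := H.eval_diff (X ^ q * s') (X ^ p * d') hs hd hs0 hsd hsd0 (by
    rw [hrQ]; exact mul_ne_zero hXn hrQ1)
  obtain ⟨g₀, hg₀, hg₀'⟩ := hsm
  have hrange : Set.range g₀.left ⊆ Set.range c.j.left := by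
    apply range_subset_of_closedPoint g₀.left _ c.j.left.isOpenEmbedding.isOpen_range
    have h1 : (specMap (cc k K)).left (IsLocalRing.closedPoint K) =
        IsLocalRing.closedPoint K⟦X⟧ := by
      have hloc : IsLocalHom (cc k K).toRingHom := by
        constructor
        intro a ha
        exact PowerSeries.isUnit_iff_constantCoeff.2 ha
      exact IsLocalRing.comap_closedPoint (cc k K).toRingHom
    rw [← h1]
    have h2 : g₀.left ((specMap (cc k K)).left (IsLocalRing.closedPoint K)) =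
        (specMap (cc k K) ≫ g₀).left (IsLocalRing.closedPoint K) := rfl
    rw [h2, hg₀', ← specMap_unit c]
    exact ⟨_, rfl⟩
  obtain ⟨ρ₀, hρ₀⟩ := alg_exists c.j g₀ hrange
  have h3 : (toFrac k K).comp ρ₀ = ρ := by
    apply alg_unique c.j
    rw [← specMap_comp, Category.assoc, hρ₀, hg₀, hρ']
  have h4 : (cc k K).comp ρ₀ = (Algebra.ofId k K).comp c.eps := by
    apply alg_unique c.j
    rw [← specMap_comp, Category.assoc, hρ₀, hg₀', specMap_unit]
  have h5 : constantCoeff (ρ₀ (c.x i)) = 0 := by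
    have h6 : cc k K (ρ₀ (c.x i)) = Algebra.ofId k K (c.eps (c.x i)) :=
      DFunLike.congr_fun h4 (c.x i)
    rw [c.eps_x, map_zero] at h6
    exact h6
  obtain ⟨w, hw⟩ := PowerSeries.X_dvd_iff.2 h5
  have h6 : X ^ n * rQ * (X * w) = X ^ m * rP := by
    apply toFrac_injective k K
    have h7 := hρ i
    rw [hrQ, hrP, ← h3, AlgHom.comp_apply, ← map_mul, hw] at h7
    exact h7
  obtain ⟨t, rfl⟩ := Nat.exists_eq_add_of_le hmn
  have h7 : X ^ t * rQ * (X * w) = rP := by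
    apply mul_left_cancel₀ hXm
    rw [← h6, pow_add]
    ring
  apply hrP0
  rw [← h7]
  simp

end main

end Groth.Agent.Sga7.H741.Slope
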