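import Groth.Agent.Sga7.H741.Arc
import Mathlib.RingTheory.Localization.AtPrime.Basic

/-!
# Extending arcs: a valuative lemma and the case where all slopes are good
-/

set_option autoImplicit false

universe u

open CategoryTheory AlgebraicGeometry Limits MonObj PowerSeries

namespace Groth.Agent.Sga7.H741.Val

open Groth.Agent.Models.WeilPts Groth.Agent.Sga7.H741.Newton Groth.Agent.Sga7.H741.Eval
  Groth.Agent.Sga7.H741.Chart Groth.Agent.Sga7.H741.Arc

section factor

variable {k : Type u} [Field k]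

/-- Factorisation of algebra homomorphisms through an injective one. -/
lemma exists_comp_eq {B C D : Type u} [CommRing B] [Algebra k B] [CommRing C] [Algebra k C]
    [CommRing D] [Algebra k D] (i : C →ₐ[k] D) (hi : Function.Injective i) (ρ : B →ₐ[k] D)
    (h : ∀ b, ρ b ∈ i.range) : ∃ ρ₀ : B →ₐ[k] C, i.comp ρ₀ = ρ := by
  refine ⟨((AlgEquiv.ofInjective i hi).symm : i.range →ₐ[k] C).comp (ρ.codRestrict i.range h), ?_⟩
  ext1 b
  have h1 : i ((AlgEquiv.ofInjective i hi).symm (ρ.codRestrict i.range h b)) =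
      (AlgEquiv.ofInjective i hi ((AlgEquiv.ofInjective i hi).symm
        (ρ.codRestrict i.range h b)) : D) := rfl
  change i ((AlgEquiv.ofInjective i hi).symm (ρ.codRestrict i.range h b)) = ρ b
  rw [h1, AlgEquiv.apply_symm_apply]
  rfl

/-- Factorisation for the coordinate ring of a chart: it is enough to check generators. -/
lemma exists_comp_eq_of_gen {G : Over (Spec (CommRingCat.of k))} [GrpObj G] (c : UnitChart G)
    {C D : Type u} [CommRing C] [Algebra k C]
    [CommRing D] [Algebra k D] (i : C →ₐ[k] D) (hi : Function.Injective i) (ρ : c.B →ₐ[k] D)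
    (h : ∀ a, ∃ y, i y = ρ (c.x a)) : ∃ ρ₀ : c.B →ₐ[k] C, i.comp ρ₀ = ρ := by
  apply exists_comp_eq i hi ρ
  intro b
  have h1 : (⊤ : Subalgebra k c.B) ≤ i.range.comap ρ := by
    rw [← c.gen, Algebra.adjoin_le_iff]
    rintro _ ⟨a, rfl⟩
    exact h a
  exact h1 (Algebra.mem_top : b ∈ ⊤)

/-- A homomorphism out of the coordinate ring of a chart killing the coordinates is the unit. -/
lemma eq_unit_of_gen {G : Over (Spec (CommRingCat.of k))} [GrpObj G] (c : UnitChart G)
    {C : Type u} [CommRing C] [Algebra k C] (ρ : c.B →ₐ[k] C) (h : ∀ a, ρ (c.x a) = 0) :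
    ρ = (Algebra.ofId k C).comp c.eps := by
  apply AlgHom.ext_of_adjoin_eq_top c.gen
  rintro _ ⟨a, rfl⟩
  rw [h a]
  change 0 = Algebra.ofId k C (c.eps (c.x a))
  rw [c.eps_x, map_zero]

end factor

section valuative

variable {k : Type u} [Field k]

/-- An affine open neighbourhood as a `k`-scheme. -/
lemma exists_nhd (G : Over (Spec (CommRingCat.of k))) (γ : G.left) :
    ∃ (B : Type u) (_ : CommRing B) (_ : Algebra k B) (j : SpecO k B ⟶ G),
      IsOpenImmersion j.left ∧ γ ∈ Set.range j.left := by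
  obtain ⟨V, hV, hpt, -⟩ := exists_isAffineOpen_mem_and_subset (x := γ) (U := ⊤) trivial
  let φ : CommRingCat.of k ⟶ Γ(G.left, V) := Spec.preimage (hV.fromSpec ≫ G.hom)
  have hφ : Spec.map φ = hV.fromSpec ≫ G.hom := Spec.map_preimage _
  let _ : Algebra k Γ(G.left, V) := φ.hom.toAlgebra
  let j : SpecO k Γ(G.left, V) ⟶ G := Over.homMk hV.fromSpec hφ.symm
  refine ⟨Γ(G.left, V), inferInstance, inferInstance, j,
    inferInstanceAs (IsOpenImmersion hV.fromSpec), ?_⟩
  have : Set.range j.left = V := hV.range_fromSpec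
  rw [this]
  exact hpt

/-- Valuative lemma. -/
lemma exists_extension {G : Over (Spec (CommRingCat.of k))}
    {R₀ F V₀ L : Type u} [CommRing R₀] [Algebra k R₀] [Field F] [Algebra k F]
    [CommRing V₀] [IsLocalRing V₀] [Algebra k V₀] [Field L] [Algebra k L]
    (iF : R₀ →ₐ[k] F) (hiF : Function.Injective iF) (θ : F →ₐ[k] L) (i : V₀ →ₐ[k] L)
    (hdom : ∀ (y : F) (v : V₀), i v = θ y → ∃ z, iF z = y)
    (f : SpecO k F ⟶ G) (g : SpecO k V₀ ⟶ G) (h : specMap θ ≫ f = specMap i ≫ g) :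
    ∃ f' : SpecO k R₀ ⟶ G, specMap iF ≫ f' = f := by
  obtain ⟨B, _, _, j, hj, hγ⟩ := exists_nhd G (g.left (IsLocalRing.closedPoint V₀))
  have hop : IsOpen (Set.range j.left) := j.left.isOpenEmbedding.isOpen_range
  have hg : Set.range g.left ⊆ Set.range j.left := range_subset_of_closedPoint g.left _ hop hγ
  obtain ⟨α, hα⟩ := alg_exists j g hg
  have hf : Set.range f.left ⊆ Set.range j.left := by
    have h1 : f.left (IsLocalRing.closedPoint F) ∈ Set.range j.left := by
      have h2 : (specMap θ ≫ f).left (IsLocalRing.closedPoint L) ∈ Set.range j.left := by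
        rw [h]
        exact hg ⟨_, rfl⟩
      have h3 : (specMap θ).left (IsLocalRing.closedPoint L) = IsLocalRing.closedPoint F := by
        have : Subsingleton (PrimeSpectrum F) := inferInstance
        exact this.elim _ _
      have h4 : (specMap θ ≫ f).left (IsLocalRing.closedPoint L) =
        f.left ((specMap θ).left (IsLocalRing.closedPoint L)) := rfl
      rw [h4, h3] at h2
      exact h2
    exact range_subset_of_closedPoint f.left _ hop h1
  obtain ⟨β, hβ⟩ := alg_exists j f hf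
  have hcomp : θ.comp β = i.comp α := by
    apply alg_unique j
    rw [← specMap_comp, ← specMap_comp, Category.assoc, Category.assoc, hβ, hα, h]
  obtain ⟨β₀, hβ₀⟩ := exists_comp_eq iF hiF β (by
    intro b
    obtain ⟨z, hz⟩ := hdom (β b) (α b) (DFunLike.congr_fun hcomp b).symm
    exact ⟨z, hz⟩)
  refine ⟨specMap β₀ ≫ j, ?_⟩
  rw [← Category.assoc, specMap_comp, hβ₀, hβ]

end valuative

section ev1'

variable {k : Type u} [Field k]

/-- restriction to `x = 0` -/
noncomputable def ev0' : MvPowerSeries (Fin 2) k →ₐ[k] k⟦X⟧ :=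
  ev k (K := k) 0 X (map_zero _) constantCoeff_X

lemma coeff_ev0' (P : MvPowerSeries (Fin 2) k) (m : ℕ) :
    coeff m (ev0' P) = MvPowerSeries.coeff (Finsupp.single 1 m) P := by
  classical
  have hs : constantCoeff (X : k⟦X⟧) = 0 := by simp
  have hd : constantCoeff (0 : k⟦X⟧) = 0 := by simp
  have := MvPowerSeries.coeff_subst (R := k) (hasSubst_pair hd hs) P (Finsupp.single () m)
  change MvPowerSeries.coeff (Finsupp.single () m)
      (MvPowerSeries.substAlgHom (R := k) (hasSubst_pair hd hs) P) = _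
  rw [MvPowerSeries.substAlgHom_apply, this]
  have hprod : ∀ e : Ex, (e.prod fun i m => (![0, X] i : k⟦X⟧) ^ m) =
      0 ^ (e 0) * X ^ (e 1) := by
    intro e
    rw [Finsupp.prod_fintype _ _ (by intro i; simp)]
    simp only [Fin.prod_univ_two, Matrix.cons_val_zero, Matrix.cons_val_one]
  rw [finsum_eq_single _ (Finsupp.single 1 m)]
  · rw [show MvPowerSeries.coeff (Finsupp.single () m) ((Finsupp.single (1 : Fin 2) m).prod
      fun i m => (![0, X] i : MvPowerSeries Unit k) ^ m) = coeff m ((Finsupp.single (1 : Fin 2) m).prod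
      fun i m => (![0, X] i : k⟦X⟧) ^ m) from rfl, hprod]
    simp
  · intro e he
    rw [show MvPowerSeries.coeff (Finsupp.single () m) (e.prod
      fun i m => (![0, X] i : MvPowerSeries Unit k) ^ m) = coeff m (e.prod
      fun i m => (![0, X] i : k⟦X⟧) ^ m) from rfl, hprod]
    by_cases h1 : e 0 = 0
    · have h0 : e 1 ≠ m := by
        intro h0
        apply he
        ext i
        fin_cases i
        · simpa using h1
        · simpa using h0
      rw [h1, pow_zero, _root_.one_mul, PowerSeries.coeff_X_pow, if_neg (Ne.symm h0), smul_zero]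
    · rw [zero_pow h1, zero_mul, map_zero, smul_zero]

end ev1'

section allgood

variable {k : Type u} [Field k] {F : Type u} [Field F] [Algebra k F] [Algebra k⟦X⟧ F]
  [IsScalarTower k k⟦X⟧ F] [IsFractionRing k⟦X⟧ F]
  {G : Over (Spec (CommRingCat.of k))} [GrpObj G] (c : UnitChart G)

/-- If `ord_x P ≥ ord_x Q` then the arc extends. -/
theorem exists_extension_of_ord (f : SpecO k F ⟶ G)
    (P : Fin c.r → MvPowerSeries (Fin 2) k) (Q : MvPowerSeries (Fin 2) k) (hQ : Q ≠ 0)
    (hc : ∀ (L : Type u) [Field L] [Algebra k L] (θ : MvPowerSeries (Fin 2) k →ₐ[k] L), θ Q ≠ 0 →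
        ∃ θ₁ θ₂ : F →ₐ[k] L,
          θ₁.comp (IsScalarTower.toAlgHom k k⟦X⟧ F) = θ.comp (phi1 k) ∧
          θ₂.comp (IsScalarTower.toAlgHom k k⟦X⟧ F) = θ.comp (phi2 k) ∧
          ∃ ρ : c.B →ₐ[k] L, (∀ i, θ Q * ρ (c.x i) = θ (P i)) ∧
            specMap ρ ≫ c.j = (specMap θ₂ ≫ f) * (specMap θ₁ ≫ f)⁻¹)
    (hord : ∀ i, ∀ u ∈ supp (P i), ∃ v ∈ supp Q, v 0 ≤ u 0) :
    ∃ f' : SpecO k k⟦X⟧ ⟶ G, specMap (IsScalarTower.toAlgHom k k⟦X⟧ F) ≫ f' = f := by
  classical
  let A := MvPowerSeries (Fin 2) k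
  -- the order of `Q`
  obtain ⟨v₁, hv₁⟩ : ∃ v, v ∈ supp Q := by
    by_contra h
    push Not at h
    apply hQ
    ext e
    by_contra h1
    exact h e h1
  have hex : ∃ m, ∃ v ∈ supp Q, v 0 = m := ⟨_, v₁, hv₁, rfl⟩
  let m := Nat.find hex
  obtain ⟨v₀, hv₀, hv₀m⟩ := Nat.find_spec hex
  have hmin : ∀ v ∈ supp Q, m ≤ v 0 := fun v hv => Nat.find_min' hex ⟨v, hv, rfl⟩
  have hdQ : (MvPowerSeries.X 0 : A) ^ m ∣ Q := by
    rw [MvPowerSeries.X_pow_dvd_iff]
    intro e he
    by_contra h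
    exact absurd (hmin e h) (not_le.mpr he)
  have hdP : ∀ i, (MvPowerSeries.X 0 : A) ^ m ∣ P i := by
    intro i
    rw [MvPowerSeries.X_pow_dvd_iff]
    intro e he
    by_contra h
    obtain ⟨v, hv, hle⟩ := hord i e h
    exact absurd ((hmin v hv).trans hle) (not_le.mpr he)
  obtain ⟨Q', hQ'⟩ := hdQ
  choose P' hP' using hdP
  -- the prime ideal `(x)`
  let π : A →ₐ[k] k⟦X⟧ := ev0'
  let 𝔭 : Ideal A := RingHom.ker π.toRingHom
  have h𝔭 : 𝔭.IsPrime := RingHom.ker_isPrime _
  have hπ : ∀ a : A, a ∈ 𝔭 ↔ π a = 0 := fun a => Iff.rfl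
  have hX0 : π (MvPowerSeries.X 0) = 0 := ev_X0 _ _ _ _
  have hX1 : π (MvPowerSeries.X 1) = X := ev_X1 _ _ _ _
  have hQ'p : Q' ∉ 𝔭 := by
    rw [hπ]
    intro h
    have h1 : MvPowerSeries.coeff (Finsupp.single 1 (v₀ 1)) Q' = 0 := by
      rw [← coeff_ev0', show ev0' Q' = 0 from h, map_zero]
    apply hv₀
    have h2 : v₀ = Finsupp.single 0 m + Finsupp.single 1 (v₀ 1) := by
      ext i
      fin_cases i
      · simp [hv₀m, m]
      · simp
    rw [hQ', h2, MvPowerSeries.X_pow_eq, MvPowerSeries.coeff_add_monomial_mul, h1, mul_zero]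
  let V := Localization.AtPrime 𝔭
  let K := FractionRing A
  let iV : A →ₐ[k] V := IsScalarTower.toAlgHom k A V
  let θ : A →ₐ[k] K := IsScalarTower.toAlgHom k A K
  have hθ : Function.Injective θ := IsFractionRing.injective A K
  let i : V →ₐ[k] K := IsLocalization.liftAlgHom (M := 𝔭.primeCompl) (f := θ) (by
    rintro ⟨a, ha⟩
    refine IsUnit.mk0 _ ?_
    intro h
    apply ha
    have : a = 0 := hθ (by rw [map_zero]; exact h)
    rw [this]
    exact 𝔭.zero_mem)
  have hi : i.comp iV = θ := by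
    ext1 a
    exact IsLocalization.lift_eq _ a
  have hi' : ∀ a, i (iV a) = θ a := fun a => DFunLike.congr_fun hi a
  have hiinj : Function.Injective i := by
    rw [injective_iff_map_eq_zero]
    intro v hv
    obtain ⟨⟨a, s⟩, has⟩ := IsLocalization.surj 𝔭.primeCompl v
    have has' : v * iV s = iV a := has
    have h1 : θ a = 0 := by rw [← hi', ← has', map_mul, hv, zero_mul]
    have h2 : a = 0 := hθ (by rw [map_zero]; exact h1)
    rw [h2, map_zero] at has'
    have h3 : IsUnit (iV s) := IsLocalization.map_units V s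
    exact (h3.mul_left_eq_zero).1 has'
  obtain ⟨θ₁, θ₂, h1, h2, ρ, h3, h4⟩ := hc K θ (by
    intro h; exact hQ (hθ (by rw [map_zero]; exact h)))
  have hQ'u : IsUnit (iV Q') := IsLocalization.map_units V (⟨Q', hQ'p⟩ : 𝔭.primeCompl)
  obtain ⟨w, hw⟩ := hQ'u.exists_right_inv
  obtain ⟨ρ₀, hρ₀⟩ := exists_comp_eq_of_gen c i hiinj ρ (by
    intro a
    refine ⟨iV (P' a) * w, ?_⟩
    have h5 := h3 a
    rw [hP' a, hQ', map_mul, map_mul] at h5
    have h6 : θ (MvPowerSeries.X 0 ^ m) ≠ 0 := by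
      intro h
      have : (MvPowerSeries.X 0 : A) ^ m = 0 := hθ (by rw [map_zero]; exact h)
      apply hQ
      rw [hQ', this, zero_mul]
    have h7 : θ Q' * ρ (c.x a) = θ (P' a) := by
      apply mul_left_cancel₀ h6
      rw [← h5, _root_.mul_assoc]
    have h8 : θ Q' * i w = 1 := by
      rw [← hi', ← map_mul, hw, map_one]
    rw [map_mul, hi', ← h7]
    calc θ Q' * ρ (c.x a) * i w = (θ Q' * i w) * ρ (c.x a) := by ring
      _ = ρ (c.x a) := by rw [h8, _root_.one_mul])
  have hxyu : IsUnit (iV (MvPowerSeries.X 0 + MvPowerSeries.X 1)) := by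
    have : (MvPowerSeries.X 0 + MvPowerSeries.X 1 : A) ∉ 𝔭 := by
      rw [hπ, map_add, hX0, hX1, zero_add]
      exact PowerSeries.X_ne_zero
    exact IsLocalization.map_units V (⟨_, this⟩ : 𝔭.primeCompl)
  let f₂ : F →ₐ[k] V := extF F (iV.comp (phi2 k)) (by
    rw [AlgHom.comp_apply, phi2_X]; exact hxyu)
  have hf₂ : f₂.comp (IsScalarTower.toAlgHom k k⟦X⟧ F) = iV.comp (phi2 k) := extF_comp _ _
  have hf₂' : i.comp f₂ = θ₂ := by
    apply extF_unique
    rw [AlgHom.comp_assoc, hf₂, ← AlgHom.comp_assoc, hi, h2]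
  let g : SpecO k V ⟶ G := (specMap ρ₀ ≫ c.j)⁻¹ * (specMap f₂ ≫ f)
  have hg : specMap θ₁ ≫ f = specMap i ≫ g := by
    rw [MonObj.comp_mul, GrpObj.comp_inv, ← Category.assoc, ← Category.assoc, specMap_comp,
      specMap_comp, hρ₀, hf₂', h4]
    group
  refine exists_extension (IsScalarTower.toAlgHom k k⟦X⟧ F) (IsFractionRing.injective k⟦X⟧ F)
    θ₁ i ?_ f g hg
  intro y v hy
  rcases ValuationRing.isInteger_or_isInteger k⟦X⟧ y with ⟨z, hz⟩ | ⟨z, hz⟩
  · exact ⟨z, hz⟩
  · have hz' : IsScalarTower.toAlgHom k k⟦X⟧ F z = y⁻¹ := hz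
    by_cases hy0 : y = 0
    · exact ⟨0, by rw [map_zero, hy0]⟩
    by_cases hzu : IsUnit z
    · obtain ⟨z', hz'1⟩ := hzu.exists_right_inv
      refine ⟨z', ?_⟩
      have h5 : IsScalarTower.toAlgHom k k⟦X⟧ F z * IsScalarTower.toAlgHom k k⟦X⟧ F z' = 1 := by
        rw [← map_mul, hz'1, map_one]
      rw [hz'] at h5
      field_simp at h5
      exact h5
    · exfalso
      have hXz : X ∣ z := by
        rw [PowerSeries.X_dvd_iff]
        by_contra h
        exact hzu (PowerSeries.isUnit_iff_constantCoeff.2 (IsUnit.mk0 _ h))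
      obtain ⟨z', rfl⟩ := hXz
      have h5 : θ₁ y * θ (phi1 k (X * z')) = 1 := by
        have h6 : θ₁ (IsScalarTower.toAlgHom k k⟦X⟧ F (X * z')) = θ (phi1 k (X * z')) :=
          DFunLike.congr_fun h1 _
        rw [← h6, hz', ← map_mul, mul_inv_cancel₀ hy0, map_one]
      rw [← hy, ← hi', ← map_mul] at h5
      have h6 : v * iV (phi1 k (X * z')) = 1 := hiinj (by rw [h5, map_one])
      have h7 : IsUnit (iV (phi1 k (X * z'))) := isUnit_of_mul_isUnit_right (h6 ▸ isUnit_one)
      have h8 : (phi1 k (X * z')) ∈ 𝔭 := by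
        rw [map_mul, phi1_X]
        exact 𝔭.mul_mem_right _ hX0
      have h9 : iV (phi1 k (X * z')) ∈ IsLocalRing.maximalIdeal V :=
        (IsLocalization.AtPrime.to_map_mem_maximal_iff V 𝔭 _).2 h8
      exact (IsLocalRing.mem_maximalIdeal _).1 h9 h7

end allgood

end Groth.Agent.Sga7.H741.Val
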